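import Cfsg.Agent.Lib.Char.InertiaNine.Klein
import Cfsg.Agent.Lib.Block.SubsectionCount
import Cfsg.Agent.Lib.Block.Contrib

/-!
# The columns of the subsection of an involution
-/

open Finset
open scoped ComplexConjugate

set_option autoImplicit false
set_option linter.unusedSectionVars false

namespace CfsgLib.Char.InertiaNine

open Cfsg CfsgLib CfsgLib.Block

universe u

variable {p : ℕ} {M : Ideal AlgInt} [M.IsMaximal] {G : Type u} [Group G] [Fintype G] [DecidableEq G]
  [Fintype (IrrCharacter G)] {x : G} {C : Subgroup G} [Fintype C] [Fintype (IrrCharacter C)]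

/-- On a section only the principal block of the centralizer is seen by the principal block. -/
theorem secFun_principal (hM : IsPModular p M) (hxp : ∃ k : ℕ, orderOf x = p ^ k)
    (hC : ∀ t : G, t ∈ C ↔ Commute t x) {χ : IrrCharacter G} (hχ : χ ∈ principalBlock M G) {y : C}
    (hy : ¬ p ∣ orderOf y) :
    (χ : G → ℂ) (x * (y : G)) = blockPart (principalBlock M C) (secFun x C χ) y := by
  classical
  have hC' : ∀ t : C, Commute (t : G) x := fun t => (hC t).mp t.2
  let U : Finset (Set (IrrCharacter C)) := Finset.univ.filter (fun b => IsPBlock M b)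
  have hU : ∀ b, b ∈ U ↔ IsPBlock M b := fun b => by simp [U]
  rw [show (χ : G → ℂ) (x * (y : G)) = secFun x C χ y from rfl,
    secFun_eq_sum_blockPart hM hC' χ y U hU]
  refine Finset.sum_eq_single _ (fun b hb hne => ?_) fun h => absurd ((hU _).mpr isPBlock_principalBlock) h
  obtain ⟨B, hB⟩ := exists_induced_centralizer hM hxp hC ((hU b).mp hb)
  refine blockPart_secFun_eq_zero hM hxp hC hB (fun hmem => hne ?_) hy
  exact (isInducedBlock_principal_iff hM hB).mp
    (isPBlock_eq_of_mem hB.2.1 isPBlock_principalBlock hmem hχ)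

variable [Fintype (principalBlock M G)]

/-- The three columns belonging to an involution with `LocalData` in its centralizer. -/
structure ColumnData (M : Ideal AlgInt) (G : Type u) [Group G] [Fintype (principalBlock M G)]
    (x : G) (C : Subgroup G) [Fintype C] (z : Fin 3 → principalBlock M G → ℤ) : Prop where
  orth : ∀ i l, ∑ χ : principalBlock M G, z i χ * z l χ = if i = l then 16 else 0
  triv : ∀ i (χ : principalBlock M G), ((χ : IrrCharacter G) = oneChar G) → z i χ = -1
  value : ∀ χ : principalBlock M G, ∃ a : ℤ, ((χ : IrrCharacter G) : G → ℂ) x = (a : ℂ) ∧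
    (∀ i, 2 ∣ z i χ - a) ∧ 4 ∣ z 0 χ + z 1 χ + z 2 χ - a
  comb : ∀ i, ∃ w : C → ℂ, (∀ y, 2 ∣ orderOf y → w y = 0) ∧
    ∀ χ : principalBlock M G, (z i χ : ℂ) = ∑ y : C, w y * ((χ : IrrCharacter G) : G → ℂ) (x * (y : G))

theorem exists_columnData (hM : IsPModular 2 M) (hx : orderOf x = 2)
    (hC : ∀ t : G, t ∈ C ↔ Commute t x) {ψ : Fin 4 → C → ℂ} (D : LocalData M C ψ) :
    ∃ z, ColumnData M G x C z := by
  classical
  haveI := Fact.mk Nat.prime_two
  have hxp : ∃ k : ℕ, orderOf x = 2 ^ k := ⟨1, by rw [hx]; norm_num⟩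
  obtain ⟨lam, hlam, hsec⟩ := exists_secCoeff (p := 2) (k := 1) (by rw [hx]; norm_num) hC
  have hC' : ∀ t : C, Commute (t : G) x := fun t => (hC t).mp t.2
  have hlam' : ∀ η, ∃ l : ℤ, lam η = (l : ℂ) := fun η => by
    have h := hlam η
    rw [pow_one] at h
    rcases sq_eq_one_iff.mp h with e | e
    · exact ⟨1, by rw [e, Int.cast_one]⟩
    · exact ⟨-1, by rw [e]; push_cast; rfl⟩
  choose l hl using hlam'
  choose dη hdη using fun η : principalBlock M C => D.span η η.2
  -- integral coordinates of a character on the section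
  have hd : ∀ χ : principalBlock M G, ∃ d : Fin 4 → ℤ, ∀ y : C, ¬ 2 ∣ orderOf y →
      ((χ : IrrCharacter G) : G → ℂ) (x * (y : G)) = ∑ j, (d j : ℂ) * ψ j y := by
    intro χ
    refine ⟨fun j => ∑ η : principalBlock M C, (resMult (χ : IrrCharacter G) (η : IrrCharacter C) : ℤ) *
      l η * dη η j, fun y hy => ?_⟩
    rw [secFun_principal hM hxp hC χ.2 hy, blockPart_secFun_eq hC' (hsec (χ : IrrCharacter G))]
    simp only [Int.cast_sum, Int.cast_mul, Int.cast_natCast, Finset.sum_mul]
    rw [Finset.sum_comm]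
    rw [Finset.sum_subtype (p := fun η => η ∈ principalBlock M C) _ (fun η => by simp)]
    refine Finset.sum_congr rfl fun η _ => ?_
    rw [hdη η y hy, hl, Finset.mul_sum]
    exact Finset.sum_congr rfl fun j _ => by ring
  choose d hd using hd
  let z : Fin 3 → principalBlock M G → ℤ := fun i χ => (∑ j, d χ j) - 2 * (d χ 0 + d χ i.succ)
  let R := Finset.univ.filter (fun y : C => ¬ 2 ∣ orderOf y)
  let w : Fin 3 → C → ℂ := fun i y =>
    if 2 ∣ orderOf y then 0 else -(8 / (Nat.card C : ℂ)) * (conj (ψ 0 y) + conj (ψ i.succ y))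
  have hC0 : (Nat.card C : ℂ) ≠ 0 := Nat.cast_ne_zero.mpr Nat.card_pos.ne'
  have hW : ∀ i m, ∑ y ∈ R, w i y * ψ m y = if m = 0 ∨ m = i.succ then -1 else 1 := by
    intro i m
    rw [Finset.sum_congr rfl (g := fun y => -(8 / (Nat.card C : ℂ)) *
      (ψ m y * conj (ψ 0 y) + ψ m y * conj (ψ i.succ y))) fun y hy => by
        simp only [w, if_neg (Finset.mem_filter.mp hy).2]; ring,
      ← Finset.mul_sum, Finset.sum_add_distrib, D.gram, D.gram]
    by_cases h0 : m = 0
    · subst h0
      rw [if_pos rfl, if_neg (Fin.succ_ne_zero i).symm, if_pos (Or.inl rfl)]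
      field_simp
      ring
    · by_cases hi : m = i.succ
      · subst hi
        rw [if_neg h0, if_pos rfl, if_pos (Or.inr rfl)]
        field_simp
        ring
      · rw [if_neg h0, if_neg hi, if_neg (by tauto)]
        field_simp
        ring
  have hzsum : ∀ (i : Fin 3) (f : C → ℂ), ∑ y : C, w i y * f y = ∑ y ∈ R, w i y * f y := fun i f =>
    (Finset.sum_subset (Finset.subset_univ _) fun y _ hy => by
      have : 2 ∣ orderOf y := by
        by_contra h
        exact hy (Finset.mem_filter.mpr ⟨Finset.mem_univ _, h⟩)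
      simp [w, this]).symm
  have hzcomb : ∀ i χ, (z i χ : ℂ) = ∑ y : C, w i y * ((χ : IrrCharacter G) : G → ℂ) (x * (y : G)) := by
    intro i χ
    rw [hzsum, Finset.sum_congr rfl fun y hy => by rw [hd χ y (Finset.mem_filter.mp hy).2, Finset.mul_sum],
      Finset.sum_comm, Finset.sum_congr rfl (g := fun j => (d χ j : ℂ) * if j = 0 ∨ j = i.succ then -1 else 1)
      fun j _ => by rw [← hW i j, Finset.mul_sum]; exact Finset.sum_congr rfl fun y _ => by ring]
    fin_cases i <;> simp [z, Fin.sum_univ_four] <;> ring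
  refine ⟨z, ⟨fun i k => ?_, fun i χ hχ => ?_, fun χ => ?_, fun i => ⟨w i, fun y hy => by
    simp only [w, if_pos hy], hzcomb i⟩⟩⟩
  · have hcast : ((∑ χ : principalBlock M G, z i χ * z k χ : ℤ) : ℂ) =
        ((if i = k then 16 else 0 : ℤ) : ℂ) := by
      push_cast
      calc ∑ χ : principalBlock M G, (z i χ : ℂ) * (z k χ : ℂ)
          = ∑ χ : principalBlock M G, ∑ y ∈ R, ∑ y' ∈ R, (w i y * conj (w k y')) *
              (((χ : IrrCharacter G) : G → ℂ) (x * (y : G)) *
                conj (((χ : IrrCharacter G) : G → ℂ) (x * (y' : G)))) := by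
            refine Finset.sum_congr rfl fun χ _ => ?_
            conv_lhs => rw [← map_intCast (starRingEnd ℂ) (z k χ), hzcomb, hzcomb, hzsum, hzsum, map_sum,
              Finset.sum_mul_sum]
            refine Finset.sum_congr rfl fun y _ => Finset.sum_congr rfl fun y' _ => ?_
            rw [map_mul]; ring
        _ = ∑ y ∈ R, ∑ y' ∈ R, (w i y * conj (w k y')) * (4 * ∑ m, ψ m y * conj (ψ m y')) := by
            rw [Finset.sum_comm]
            refine Finset.sum_congr rfl fun y hy => ?_
            rw [Finset.sum_comm]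
            refine Finset.sum_congr rfl fun y' hy' => ?_
            rw [← Finset.mul_sum, ← D.orth y y' (Finset.mem_filter.mp hy).2 (Finset.mem_filter.mp hy').2,
              ← sum_principal_secFun hM hxp hC (Finset.mem_filter.mp hy).2 (Finset.mem_filter.mp hy').2,
              ← finsum_set_coe_eq_finsum_mem, finsum_eq_sum_of_fintype]
        _ = 4 * ∑ m, (∑ y ∈ R, w i y * ψ m y) * conj (∑ y ∈ R, w k y * ψ m y) := by
            have hm : ∀ m, 4 * ((∑ y ∈ R, w i y * ψ m y) * conj (∑ y ∈ R, w k y * ψ m y)) =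
                ∑ y ∈ R, ∑ y' ∈ R, w i y * conj (w k y') * (4 * (ψ m y * conj (ψ m y'))) := fun m => by
              rw [map_sum, Finset.sum_mul_sum, Finset.mul_sum]
              refine Finset.sum_congr rfl fun y _ => ?_
              rw [Finset.mul_sum]
              exact Finset.sum_congr rfl fun y' _ => by rw [map_mul]; ring
            symm
            rw [Finset.mul_sum, Finset.sum_congr rfl fun m _ => hm m, Finset.sum_comm]
            refine Finset.sum_congr rfl fun y _ => ?_
            rw [Finset.sum_comm]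
            refine Finset.sum_congr rfl fun y' _ => ?_
            rw [Finset.mul_sum, Finset.mul_sum]
        _ = _ := by
            simp only [hW]
            fin_cases i <;> fin_cases k <;> simp [Fin.sum_univ_four] <;> norm_num
    exact Int.cast_injective hcast
  · have h : (z i χ : ℂ) = ((-1 : ℤ) : ℂ) := by
      rw [hzcomb, hzsum, Finset.sum_congr rfl (g := fun y => w i y * ψ 0 y) fun y hy => by
        rw [D.one y (Finset.mem_filter.mp hy).2, hχ]; simp [oneChar], hW]
      simp
    exact Int.cast_injective h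
  · choose n hn hn4 using D.deg
    refine ⟨∑ j, d χ j * n j, ?_, ?_, ?_⟩
    · have h := hd χ 1 (by rw [orderOf_one]; norm_num)
      rw [OneMemClass.coe_one, mul_one] at h
      rw [h]
      push_cast
      exact Finset.sum_congr rfl fun j _ => by rw [hn]
    · intro i
      obtain ⟨q0, e0⟩ := hn4 0
      obtain ⟨q1, e1⟩ := hn4 1
      obtain ⟨q2, e2⟩ := hn4 2
      obtain ⟨q3, e3⟩ := hn4 3
      refine ⟨-(d χ 0 + d χ i.succ) - 2 * (d χ 0 * q0 + d χ 1 * q1 + d χ 2 * q2 + d χ 3 * q3), ?_⟩
      simp only [z, Fin.sum_univ_four]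
      linear_combination (-d χ 0) * e0 + (-d χ 1) * e1 + (-d χ 2) * e2 + (-d χ 3) * e3
    · obtain ⟨q0, e0⟩ := hn4 0
      obtain ⟨q1, e1⟩ := hn4 1
      obtain ⟨q2, e2⟩ := hn4 2
      obtain ⟨q3, e3⟩ := hn4 3
      refine ⟨-d χ 0 - (d χ 0 * q0 + d χ 1 * q1 + d χ 2 * q2 + d χ 3 * q3), ?_⟩
      show (∑ j, d χ j) - 2 * (d χ 0 + d χ 1) + ((∑ j, d χ j) - 2 * (d χ 0 + d χ 2)) +
        ((∑ j, d χ j) - 2 * (d χ 0 + d χ 3)) - ∑ j, d χ j * n j = _
      simp only [Fin.sum_univ_four]
      linear_combination (-d χ 0) * e0 + (-d χ 1) * e1 + (-d χ 2) * e2 + (-d χ 3) * e3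

end CfsgLib.Char.InertiaNine
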