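import Cfsg.Agent.Lib.Char.InertiaNine.Frame

/-!
# Centralizers of the three classes of involutions
-/

set_option autoImplicit false
set_option linter.unusedSectionVars false

open Subgroup
open scoped commutatorElement

namespace CfsgLib.Char.InertiaNine

universe u

variable {G : Type u} [Group G] [Finite G] {P U V : Subgroup G} {g h : G}

theorem conj_pow_apply (g x : G) (i : ℕ) : g ^ (i + 1) * x * (g ^ (i + 1))⁻¹ =
    g * (g ^ i * x * (g ^ i)⁻¹) * g⁻¹ := by
  rw [pow_succ']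
  group

/-- The nontrivial elements of one four-group are permuted transitively. -/
theorem Frame.exists_pow_conj (F : Frame P U V g h) {u u' : G} (hu : u ∈ U) (hu1 : u ≠ 1)
    (hu' : u' ∈ U) (hu'1 : u' ≠ 1) : ∃ i : ℕ, h ^ i * u * (h ^ i)⁻¹ = u' := by
  classical
  set f : G → G := fun x => h * x * h⁻¹ with hf
  have hfU : ∀ x ∈ U, f x ∈ U := F.invU h F.memh
  have hinj : Function.Injective f := fun x y e => mul_left_cancel (mul_right_cancel e)
  have hne : ∀ x ∈ U, x ≠ 1 → f x ≠ x ∧ f x ≠ 1 := fun x hx hx1 =>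
    ⟨fun e => hx1 (F.hmove x hx e), fun e => hx1 (hinj (e.trans (by simp [hf])))⟩
  obtain ⟨n1, m1⟩ := hne u hu hu1
  obtain ⟨n2, m2⟩ := hne (f u) (hfU u hu) m1
  have n3 : f (f u) ≠ u := by
    intro e
    have hS : ∃ w ∈ U, w ≠ 1 ∧ w ≠ u ∧ w ≠ f u := by
      have : ({1, u, f u} : Finset G).card < (Set.toFinite (U : Set G)).toFinset.card := by
        rw [← Nat.card_eq_card_finite_toFinset, SetLike.coe_sort_coe, F.cardU]
        exact lt_of_le_of_lt Finset.card_le_three (by norm_num)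
      obtain ⟨w, hw, hw'⟩ := Finset.exists_mem_notMem_of_card_lt_card this
      simp only [Finset.mem_insert, Finset.mem_singleton, not_or] at hw'
      exact ⟨w, (Set.Finite.mem_toFinset _).mp hw, hw'⟩
    obtain ⟨w, hw, w1, w2, w3⟩ := hS
    obtain ⟨a1, a2⟩ := hne w hw w1
    have a3 : f w ≠ f u := fun e' => w2 (hinj e')
    have a4 : f w ≠ u := fun e' => w3 (hinj (e'.trans e.symm))
    have h5 : ({1, u, f u, w, f w} : Finset G).card ≤ 4 := by
      rw [← F.cardU, ← SetLike.coe_sort_coe, Nat.card_eq_card_finite_toFinset (Set.toFinite _)]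
      exact Finset.card_le_card fun x hx => by
        simp only [Finset.mem_insert, Finset.mem_singleton] at hx
        rw [Set.Finite.mem_toFinset]
        rcases hx with rfl | rfl | rfl | rfl | rfl
        exacts [U.one_mem, hu, hfU u hu, hw, hfU w hw]
    simp [Finset.card_insert_of_notMem, Ne.symm hu1, Ne.symm m1, Ne.symm w1, Ne.symm a2,
      Ne.symm n1, Ne.symm w2, Ne.symm a4, Ne.symm w3, Ne.symm a3, Ne.symm a1] at h5
  have hcases : u' = u ∨ u' = f u ∨ u' = f (f u) := by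
    by_contra hc
    simp only [not_or] at hc
    have h5 : ({1, u, f u, f (f u), u'} : Finset G).card ≤ 4 := by
      rw [← F.cardU, ← SetLike.coe_sort_coe, Nat.card_eq_card_finite_toFinset (Set.toFinite _)]
      exact Finset.card_le_card fun x hx => by
        simp only [Finset.mem_insert, Finset.mem_singleton] at hx
        rw [Set.Finite.mem_toFinset]
        rcases hx with rfl | rfl | rfl | rfl | rfl
        exacts [U.one_mem, hu, hfU u hu, hfU _ (hfU u hu), hu']
    simp [Finset.card_insert_of_notMem, Ne.symm hu1, Ne.symm m1, Ne.symm m2, Ne.symm hu'1,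
      Ne.symm n1, Ne.symm n3, Ne.symm n2, Ne.symm hc.1, Ne.symm hc.2.1, Ne.symm hc.2.2] at h5
  rcases hcases with rfl | rfl | rfl
  · exact ⟨0, by simp⟩
  · exact ⟨1, by simp [hf]⟩
  · exact ⟨2, by rw [conj_pow_apply, pow_one]⟩

theorem Frame.pow_fix (F : Frame P U V g h) {v : G} (hv : v ∈ V) (i : ℕ) :
    h ^ i * v * (h ^ i)⁻¹ = v := by
  induction i with
  | zero => simp
  | succ i ih => rw [conj_pow_apply, ih, F.hfix v hv]

/-- Every element of `P` is conjugate to one of the representatives. -/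
theorem Frame.class_cases (F : Frame P U V g h) {u₀ v₀ : G} (hu : u₀ ∈ U) (hu1 : u₀ ≠ 1)
    (hv : v₀ ∈ V) (hv1 : v₀ ≠ 1) {t : G} (ht : t ∈ P) :
    t = 1 ∨ IsConj t u₀ ∨ IsConj t v₀ ∨ IsConj t (u₀ * v₀) := by
  obtain ⟨u, hu', v, hv', rfl⟩ := F.cover t ht
  by_cases hu0 : u = 1
  · subst hu0
    by_cases hv0 : v = 1
    · exact Or.inl (by simp [hv0])
    obtain ⟨i, hi⟩ := F.swap.exists_pow_conj hv' hv0 hv hv1
    exact Or.inr (Or.inr (Or.inl (isConj_iff.mpr ⟨g ^ i, by rwa [one_mul]⟩)))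
  obtain ⟨i, hi⟩ := F.exists_pow_conj hu' hu0 hu hu1
  by_cases hv0 : v = 1
  · exact Or.inr (Or.inl (isConj_iff.mpr ⟨h ^ i, by rwa [hv0, mul_one]⟩))
  obtain ⟨j, hj⟩ := F.swap.exists_pow_conj hv' hv0 hv hv1
  refine Or.inr (Or.inr (Or.inr (isConj_iff.mpr ⟨g ^ j * h ^ i, ?_⟩)))
  calc g ^ j * h ^ i * (u * v) * (g ^ j * h ^ i)⁻¹
      = (g ^ j * (h ^ i * u * (h ^ i)⁻¹) * (g ^ j)⁻¹) * (g ^ j * (h ^ i * v * (h ^ i)⁻¹) * (g ^ j)⁻¹) := by
        group
    _ = u₀ * v₀ := by rw [hi, F.pow_fix hv', F.swap.pow_fix hu, hj]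

theorem Frame.eq_of_mul (F : Frame P U V g h) {u u' v v' : G} (hu : u ∈ U) (hu' : u' ∈ U)
    (hv : v ∈ V) (hv' : v' ∈ V) (e : u * v = u' * v') : u = u' ∧ v = v' := by
  have h1 : u'⁻¹ * u = v' * v⁻¹ := by
    calc u'⁻¹ * u = u'⁻¹ * (u * v) * v⁻¹ := by group
      _ = u'⁻¹ * (u' * v') * v⁻¹ := by rw [e]
      _ = v' * v⁻¹ := by group
  have hmem : u'⁻¹ * u ∈ U ⊓ V :=
    ⟨U.mul_mem (U.inv_mem hu') hu, h1 ▸ V.mul_mem hv' (V.inv_mem hv)⟩
  rw [F.disj, mem_bot] at hmem
  exact ⟨(inv_mul_eq_one.mp hmem).symm, (mul_inv_eq_one.mp (h1 ▸ hmem)).symm⟩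

/-- An element of the normalizer fixing a product of nontrivial components centralizes `P`. -/
theorem Frame.centralize_of_fix_mul (F : Frame P U V g h) {u v : G} (hu : u ∈ U) (hu1 : u ≠ 1)
    (hv : v ∈ V) (hv1 : v ≠ 1) {n : G} (hn : n ∈ normalizer (P : Set G))
    (hfix : n * (u * v) * n⁻¹ = u * v) : n ∈ centralizer (P : Set G) := by
  obtain ⟨e1, e2⟩ := F.eq_of_mul (F.invU n hn u hu) hu (F.invV n hn v hv) hv
    (by rw [← hfix]; group)
  refine mem_centralizer_iff.mpr fun t ht => ?_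
  obtain ⟨x, hx, y, hy, rfl⟩ := F.cover t ht
  have h1 := F.freeU n hn u hu hu1 e1 x hx
  have h2 := F.freeV n hn v hv hv1 e2 y hy
  refine (mul_inv_eq_iff_eq_mul.mp ?_).symm
  calc n * (x * y) * n⁻¹ = (n * x * n⁻¹) * (n * y * n⁻¹) := by group
    _ = x * y := by rw [h1, h2]

section sylow

variable (S : Sylow 2 G) (F : Frame (S : Subgroup G) U V g h)
include F

theorem Frame.isComm : IsMulCommutative (S : Subgroup G) :=
  ⟨⟨fun a b => Subtype.ext (F.comm a a.2 b b.2)⟩⟩

theorem Frame.not_isConj {x y : G} (hx : x ∈ (S : Subgroup G)) (hy : y ∈ (S : Subgroup G))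
    (hne : ∀ n ∈ normalizer ((S : Subgroup G) : Set G), n * x * n⁻¹ ≠ y) : ¬ IsConj x y := by
  intro hc
  obtain ⟨c, rfl⟩ := isConj_iff.mp hc
  obtain ⟨n, hn, e⟩ := Fusion.abelian_sylow_control S (F.isComm S) hx c hy
  exact hne n hn e

theorem Frame.not_conj_mix {u v : G} (hu : u ∈ U) (hv : v ∈ V) (hu1 : u ≠ 1) (hv1 : v ≠ 1) :
    ¬ IsConj u v ∧ ¬ IsConj u (u * v) ∧ ¬ IsConj v (u * v) := by
  have hb : ∀ {x}, x ∈ U → x ∈ V → x = 1 := fun {x} h1 h2 => by
    have : x ∈ U ⊓ V := ⟨h1, h2⟩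
    rwa [F.disj, mem_bot] at this
  refine ⟨F.not_isConj S (F.leU hu) (F.leV hv) fun n hn e => ?_,
    F.not_isConj S (F.leU hu) (mul_mem (F.leU hu) (F.leV hv)) fun n hn e => ?_,
    F.not_isConj S (F.leV hv) (mul_mem (F.leU hu) (F.leV hv)) fun n hn e => ?_⟩
  · exact hv1 (hb (e ▸ F.invU n hn u hu) hv)
  · refine hv1 (hb ?_ hv)
    have := U.mul_mem (U.inv_mem hu) (e ▸ F.invU n hn u hu)
    simpa using this
  · refine hu1 (hb hu ?_)
    have := V.mul_mem (e ▸ F.invV n hn v hv) (V.inv_mem hv)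
    simpa using this

/-- The centralizer of a product of nontrivial components has a normal `2`-complement. -/
theorem Frame.complement {u v : G} (hu : u ∈ U) (hu1 : u ≠ 1) (hv : v ∈ V) (hv1 : v ≠ 1) :
    Cfsg.HasNormalPComplement 2 (centralizer ({u * v} : Set G)) := by
  haveI := Fact.mk Nat.prime_two
  have hle : (S : Subgroup G) ≤ centralizer ({u * v} : Set G) := fun t ht =>
    mem_centralizer_singleton_iff.mpr (F.comm t ht _ (mul_mem (F.leU hu) (F.leV hv)))
  refine Fusion.hasNormalPComplement_of_normalizer_le_centralizer (S.subtype hle) fun n hn => ?_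
  have hn' : (n : G) ∈ normalizer ((S : Subgroup G) : Set G) := by
    rw [mem_normalizer_iff]
    intro x
    rw [Sylow.coe_subtype, mem_normalizer_iff] at hn
    constructor
    · intro hx
      exact (hn ⟨x, hle hx⟩).mp hx
    · intro hx
      have hx' : x ∈ centralizer ({u * v} : Set G) := by
        have := mul_mem (mul_mem (inv_mem n.2) (hle hx)) n.2
        simpa [mul_assoc] using this
      exact (hn ⟨x, hx'⟩).mpr hx
  have hc := F.centralize_of_fix_mul hu hu1 hv hv1 hn'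
    (mul_inv_eq_iff_eq_mul.mpr (mem_centralizer_singleton_iff.mp n.2))
  refine mem_centralizer_iff.mpr fun x hx => Subtype.ext ?_
  exact mem_centralizer_iff.mp hc x hx

/-- The subgroup of the centralizer of `u` generated by elements of odd order: it contains `V` and
meets the Sylow subgroup in `V`. -/
theorem Frame.residual {u : G} (hu : u ∈ U) (hu1 : u ≠ 1) :
    ∃ (hle : (S : Subgroup G) ≤ centralizer ({u} : Set G)),
      (S : Subgroup G).subgroupOf (centralizer ({u} : Set G)) ⊓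
          Cfsg.pResidual 2 (centralizer ({u} : Set G)) = V.subgroupOf (centralizer ({u} : Set G)) ∧
      (∀ w ∈ (S : Subgroup G), w ∈ centralizer ({u} : Set G)) ∧ g ∈ centralizer ({u} : Set G) := by
  classical
  haveI := Fact.mk Nat.prime_two
  have hle : (S : Subgroup G) ≤ centralizer ({u} : Set G) := fun t ht =>
    mem_centralizer_singleton_iff.mpr (F.comm t ht _ (F.leU hu))
  have hgC : g ∈ centralizer ({u} : Set G) :=
    mem_centralizer_singleton_iff.mpr (mul_inv_eq_iff_eq_mul.mp (F.gfix u hu))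
  refine ⟨hle, ?_, fun w hw => hle hw, hgC⟩
  set A := centralizer ({u} : Set G)
  set P' := S.subtype hle with hP'
  have hab : IsMulCommutative (P' : Subgroup A) :=
    ⟨⟨fun a b => Subtype.ext (Subtype.ext (F.comm _ (mem_subgroupOf.mp a.2) _ (mem_subgroupOf.mp b.2)))⟩⟩
  have hnorm : ∀ n ∈ normalizer ((P' : Subgroup A) : Set A), (n : G) ∈ normalizer ((S : Subgroup G) : Set G) := by
    intro n hn
    rw [mem_normalizer_iff] at hn ⊢
    intro x
    constructor
    · intro hx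
      exact (hn ⟨x, hle hx⟩).mp hx
    · intro hx
      have hx' : x ∈ A := by
        have := mul_mem (mul_mem (inv_mem n.2) (hle hx)) n.2
        simpa [mul_assoc] using this
      exact (hn ⟨x, hx'⟩).mpr hx
  rw [show (S : Subgroup G).subgroupOf A = (P' : Subgroup A) from rfl,
    Fusion.inf_pResidual_abelian_sylow P' hab]
  refine le_antisymm ((commutator_le).mpr fun t ht n hn => ?_) fun x hx => ?_
  · obtain ⟨x, hx, y, hy, hxy⟩ := F.cover _ (mem_subgroupOf.mp ht)
    have hn' := hnorm n hn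
    have hfx := F.freeU n hn' u hu hu1
      (mul_inv_eq_iff_eq_mul.mpr (mem_centralizer_singleton_iff.mp n.2)) x hx
    rw [mem_subgroupOf]
    have : ((⁅t, n⁆ : A) : G) = y * ((n : G) * y⁻¹ * (n : G)⁻¹) := by
      show (t : G) * n * (t : G)⁻¹ * (n : G)⁻¹ = _
      have hx'' : (n : G) * x⁻¹ * (n : G)⁻¹ = x⁻¹ := by
        have := congrArg (·⁻¹) hfx
        simpa [mul_assoc] using this
      have hcy : (n : G) * y⁻¹ * (n : G)⁻¹ ∈ V := F.invV n hn' _ (inv_mem hy)
      rw [hxy]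
      calc x * y * n * (x * y)⁻¹ * (n : G)⁻¹
          = x * y * ((n : G) * y⁻¹ * (n : G)⁻¹) * ((n : G) * x⁻¹ * (n : G)⁻¹) := by group
        _ = y * ((n : G) * y⁻¹ * (n : G)⁻¹) * x * x⁻¹ := by
          rw [hx'', mul_assoc x, F.comm x (F.leU hx) _ (mul_mem (F.leV hy) (F.leV hcy))]
        _ = y * ((n : G) * y⁻¹ * (n : G)⁻¹) := by group
    rw [this]
    exact mul_mem hy (F.invV n hn' _ (inv_mem hy))
  · rw [mem_subgroupOf] at hx
    let φ : V → V := fun v => ⟨(v : G) * (g * (v : G)⁻¹ * g⁻¹),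
      mul_mem v.2 (F.invV g F.memg _ (inv_mem v.2))⟩
    have hinj : Function.Injective φ := fun v w e => by
      have e' : (v : G) * (g * (v : G)⁻¹ * g⁻¹) = w * (g * (w : G)⁻¹ * g⁻¹) := congrArg Subtype.val e
      refine Subtype.ext (inv_mul_eq_one.mp (F.gmove _ (mul_mem (inv_mem w.2) v.2) ?_)).symm
      calc g * ((w : G)⁻¹ * v) * g⁻¹ = (g * (w : G)⁻¹ * g⁻¹) * (g * (v : G)⁻¹ * g⁻¹)⁻¹ := by group
        _ = ((w : G)⁻¹ * (w * (g * (w : G)⁻¹ * g⁻¹))) * (g * (v : G)⁻¹ * g⁻¹)⁻¹ := by group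
        _ = ((w : G)⁻¹ * (v * (g * (v : G)⁻¹ * g⁻¹))) * (g * (v : G)⁻¹ * g⁻¹)⁻¹ := by rw [e']
        _ = (w : G)⁻¹ * v := by group
    obtain ⟨v, hv⟩ := Finite.surjective_of_injective hinj ⟨x, hx⟩
    have hgN : (⟨g, hgC⟩ : A) ∈ normalizer ((P' : Subgroup A) : Set A) := by
      rw [mem_normalizer_iff]
      exact fun y => mem_normalizer_iff.mp F.memg y
    have hmem := commutator_mem_commutator (show (⟨v, hle (F.leV v.2)⟩ : A) ∈ (P' : Subgroup A) from
      F.leV v.2) hgN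
    convert hmem using 1
    apply Subtype.ext
    show (x : G) = (v : G) * g * (v : G)⁻¹ * g⁻¹
    rw [← congrArg Subtype.val hv]
    show (v : G) * (g * (v : G)⁻¹ * g⁻¹) = _
    group

/-- Inside the residual of the centralizer of `u` there is one class of involutions. -/
theorem Frame.residual_klein {u : G} (hu : u ∈ U) (hu1 : u ≠ 1) (hsq : ∀ v ∈ V, v * v = 1) :
    ∃ Q : Sylow 2 (Cfsg.pResidual 2 (centralizer ({u} : Set G))),
      Nat.card Q = 4 ∧ (∀ v ∈ (Q : Subgroup (Cfsg.pResidual 2 (centralizer ({u} : Set G)))), v * v = 1) ∧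
      (∀ a b : Cfsg.pResidual 2 (centralizer ({u} : Set G)), orderOf a = 2 → orderOf b = 2 →
        IsConj a b) ∧
      (Cfsg.pResidual 2 (centralizer ({u} : Set G))).index = 4 ∧
      ∀ q ∈ (Q : Subgroup (Cfsg.pResidual 2 (centralizer ({u} : Set G)))), ((q : centralizer ({u} : Set G)) : G) ∈ V := by
  classical
  haveI := Fact.mk Nat.prime_two
  obtain ⟨hle, hinf, hwC, hgC⟩ := F.residual S hu hu1
  set A := centralizer ({u} : Set G)
  set K := Cfsg.pResidual 2 A with hK
  haveI : K.Normal := Fusion.pResidual_normal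
  set P' := S.subtype hle with hP'
  have hsup : K ⊔ (P' : Subgroup A) = ⊤ := Fusion.pResidual_sup_sylow P'
  have hP'c : Nat.card (P' : Subgroup A) = 16 := by
    rw [hP', Sylow.coe_subtype, Nat.card_congr (subgroupOfEquivOfLe hle).toEquiv]
    have hbij : Function.Bijective (fun p : U × V => (⟨(p.1 : G) * p.2,
        mul_mem (F.leU p.1.2) (F.leV p.2.2)⟩ : (S : Subgroup G))) := by
      constructor
      · intro p q e
        obtain ⟨e1, e2⟩ := F.eq_of_mul p.1.2 q.1.2 p.2.2 q.2.2 (congrArg Subtype.val e)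
        exact Prod.ext (Subtype.ext e1) (Subtype.ext e2)
      · intro t
        obtain ⟨x, hx, y, hy, e⟩ := F.cover t t.2
        exact ⟨⟨⟨x, hx⟩, ⟨y, hy⟩⟩, Subtype.ext e.symm⟩
    rw [← Nat.card_eq_of_bijective _ hbij, Nat.card_prod, F.cardU, F.cardV]
  set W := (V.subgroupOf A).subgroupOf K with hW
  have hVK : V.subgroupOf A ≤ K := hinf ▸ inf_le_right
  have hWc : Nat.card W = 4 := by
    rw [hW, Nat.card_congr (subgroupOfEquivOfLe hVK).toEquiv,
      Nat.card_congr (subgroupOfEquivOfLe (F.leV.trans hle)).toEquiv, F.cardV]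
  have hWP : W = (P' : Subgroup A).subgroupOf K := by
    ext x
    rw [hW, mem_subgroupOf, ← hinf]
    exact ⟨fun hx => hx.1, fun hx => ⟨hx, x.2⟩⟩
  have hKP : K.index * Nat.card W = Nat.card (P' : Subgroup A) := by
    have h1 : K.index = K.relIndex (P' : Subgroup A) := by
      rw [← relIndex_sup_right (H := (P' : Subgroup A)) (K := K), sup_comm, hsup, relIndex_top_right]
    have h2 : Nat.card W = Nat.card (K.subgroupOf (P' : Subgroup A)) := by
      rw [hWP]
      exact Nat.card_congr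
        { toFun := fun x => ⟨⟨((x : K) : A), x.2⟩, x.1.2⟩
          invFun := fun x => ⟨⟨((x : (P' : Subgroup A)) : A), x.2⟩, x.1.2⟩
          left_inv := fun x => rfl
          right_inv := fun x => rfl }
    rw [h1, h2, relIndex, mul_comm, card_mul_index]
  have hidx : K.index = 4 := by rw [hWc, hP'c] at hKP; omega
  have hW2 : ¬ 2 ∣ W.index := by
    intro hd
    have h1 : (P' : Subgroup A).relIndex K ∣ (P' : Subgroup A).index := by
      haveI := hsup
      have h2 : (P' : Subgroup A).relIndex K * Nat.card W = Nat.card K := by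
        rw [relIndex, ← hWP, mul_comm, card_mul_index]
      have h3 := (P' : Subgroup A).card_mul_index
      have h4 := K.card_mul_index
      rw [hP'c] at h3
      rw [hidx, ← h2, hWc, ← h3] at h4
      exact ⟨1, by omega⟩
    exact P'.not_dvd_index (((show W.index = (P' : Subgroup A).relIndex K by rw [relIndex, hWP]) ▸ hd).trans h1)
  let Q : Sylow 2 K := (IsPGroup.of_card (n := 2) (by rw [hWc]; norm_num) : IsPGroup 2 W).toSylow hW2
  have hQW : (Q : Subgroup K) = W := IsPGroup.toSylow_coe _ _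
  have hQV : ∀ q ∈ (Q : Subgroup K), ((q : A) : G) ∈ V := fun q hq => by
    rw [hQW] at hq; exact hq
  refine ⟨Q, by rw [← hWc, ← hQW], fun v hv => Subtype.ext (Subtype.ext (hsq _ (hQV v hv))),
    fun a b ha hb => ?_, hidx, hQV⟩
  -- move both involutions into `V`
  have hinto : ∀ a : K, orderOf a = 2 → ∃ a' : K, IsConj a a' ∧ ((a' : A) : G) ∈ V ∧ ((a' : A) : G) ≠ 1 := by
    intro a ha
    obtain ⟨T, hT⟩ := (IsPGroup.of_card (n := 1) (by rw [Nat.card_zpowers, ha, pow_one]) :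
      IsPGroup 2 (zpowers a)).exists_le_sylow
    obtain ⟨c, hc⟩ := MulAction.exists_smul_eq K T Q
    refine ⟨c * a * c⁻¹, isConj_iff.mpr ⟨c, rfl⟩, hQV _ ?_, fun h1 => ?_⟩
    · rw [← hc, Sylow.coe_subgroup_smul]
      exact Subgroup.smul_mem_pointwise_smul a (MulAut.conj c) _ (hT (mem_zpowers a))
    · have h2 : c * a * c⁻¹ = 1 := Subtype.ext (Subtype.ext h1)
      rw [conj_eq_one_iff] at h2
      rw [h2, orderOf_one] at ha
      omega
  obtain ⟨a', haa, haV, ha1⟩ := hinto a ha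
  obtain ⟨b', hbb, hbV, hb1⟩ := hinto b hb
  obtain ⟨i, hi⟩ := F.swap.exists_pow_conj haV ha1 hbV hb1
  have hgi : (⟨g, hgC⟩ : A) ^ i ∈ K ⊔ (P' : Subgroup A) := hsup ▸ mem_top _
  obtain ⟨k, hk, t, ht, hkt⟩ := mem_sup_of_normal_left.mp hgi
  refine haa.trans ((isConj_iff.mpr ⟨⟨k, hk⟩, Subtype.ext (Subtype.ext ?_)⟩).trans hbb.symm)
  have hkt' : (k : G) * t = g ^ i := congrArg Subtype.val hkt
  show (k : G) * ((a' : A) : G) * (k : G)⁻¹ = ((b' : A) : G)
  rw [← hi, ← hkt']
  have hta : (t : G) * ((a' : A) : G) = ((a' : A) : G) * t :=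
    F.comm _ (mem_subgroupOf.mp ht) _ (F.leV haV)
  calc (k : G) * ((a' : A) : G) * (k : G)⁻¹
      = (k : G) * (((a' : A) : G) * t) * (t : G)⁻¹ * (k : G)⁻¹ := by group
    _ = (k : G) * ((t : G) * ((a' : A) : G)) * (t : G)⁻¹ * (k : G)⁻¹ := by rw [hta]
    _ = (k : G) * t * ((a' : A) : G) * ((k : G) * t)⁻¹ := by group

end sylow

end CfsgLib.Char.InertiaNine
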