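import Cfsg.Agent.Lib.Char.InertiaNine.Arith
import Cfsg.Agent.Lib.Char.InertiaNine.Local
import Cfsg.Agent.Lib.Char.InertiaNine.Columns
import Cfsg.Agent.Lib.Block.ChainCount

/-!
# Elementary abelian Sylow 2-subgroup of order 16 with inertial index 9

The principal block has sixteen irreducible characters and 2-regular rank nine.
-/

open Finset
open scoped ComplexConjugate

set_option autoImplicit false
set_option linter.unusedSectionVars false

namespace CfsgLib.Char.InertiaNine

open Cfsg CfsgLib CfsgLib.Block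

open scoped Pair

universe u

variable {M : Ideal AlgInt} [M.IsMaximal] {G : Type u} [Group G] [Fintype G] [DecidableEq G]

theorem dvd_sum_char (χ : IrrCharacter G) {W : Type u} [Group W] [Fintype W] (f : W →* G) :
    ∃ m : ℤ, ∑ w : W, (χ : G → ℂ) (f w) = (Nat.card W : ℂ) * (m : ℂ) := by
  obtain ⟨m, hm⟩ := Char.classInner_char_irr_nat
    (Char.isCharacter_comp (Char.isCharacter_irr χ) f) (oneChar W)
  refine ⟨m, ?_⟩
  rw [classInner, inv_mul_eq_iff_eq_mul₀ (Nat.cast_ne_zero.mpr Nat.card_pos.ne')] at hm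
  rw [Int.cast_natCast, ← hm]
  exact Finset.sum_congr rfl fun w _ => by simp [oneChar]

theorem irr_eq_of_isConj (χ : IrrCharacter G) {s t : G} (h : IsConj s t) :
    (χ : G → ℂ) s = (χ : G → ℂ) t := by
  obtain ⟨c, rfl⟩ := isConj_iff.mp h
  exact (Char.isClassFunction_irr χ s c).symm

section frame

variable {P U V : Subgroup G} {g h : G}

/-- Sums of a character over `H × V` for `H` inside `U`. -/
theorem Frame.sum_eq (F : Frame P U V g h) (χ : IrrCharacter G) {u v : G} (hu : u ∈ U) (hu1 : u ≠ 1)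
    (hv : v ∈ V) (hv1 : v ≠ 1) (H : Subgroup G) (hH : H ≤ U) [Fintype H] [Fintype V] :
    ∃ m : ℤ, (χ : G → ℂ) 1 + 3 * (χ : G → ℂ) v +
      ((Nat.card H : ℂ) - 1) * ((χ : G → ℂ) u + 3 * (χ : G → ℂ) (u * v)) =
        4 * (Nat.card H : ℂ) * (m : ℂ) := by
  classical
  let f : H × V →* G := MonoidHom.noncommCoprod H.subtype V.subtype fun a b =>
    F.comm _ (F.leU (hH a.2)) _ (F.leV b.2)
  have hf : ∀ (a : H) (b : V), f (a, b) = (a : G) * b := fun a b => rfl
  obtain ⟨m, hm⟩ := dvd_sum_char χ f
  rw [Nat.card_prod, F.cardV, Fintype.sum_prod_type] at hm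
  refine ⟨m, ?_⟩
  have hV4 : Fintype.card V = 4 := by rw [← Nat.card_eq_fintype_card, F.cardV]
  have hA : ∀ a : H, ∑ b : V, (χ : G → ℂ) (f (a, b)) = if a = 1 then (χ : G → ℂ) 1 + 3 * (χ : G → ℂ) v
      else (χ : G → ℂ) u + 3 * (χ : G → ℂ) (u * v) := by
    intro a
    by_cases ha : a = 1
    · subst ha
      rw [if_pos rfl, ← Finset.add_sum_erase _ _ (Finset.mem_univ (1 : V)),
        Finset.sum_congr rfl (g := fun _ => (χ : G → ℂ) v) fun b hb => ?_, Finset.sum_const,
        Finset.card_erase_of_mem (Finset.mem_univ _), Finset.card_univ, hV4, nsmul_eq_mul]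
      · simp [hf]
      · have hb1 : (b : G) ≠ 1 := fun e => (Finset.mem_erase.mp hb).1 (Subtype.ext e)
        obtain ⟨i, hi⟩ := F.swap.exists_pow_conj b.2 hb1 hv hv1
        simpa [hf] using irr_eq_of_isConj χ (isConj_iff.mpr ⟨g ^ i, hi⟩)
    · have ha1 : (a : G) ≠ 1 := fun e => ha (Subtype.ext e)
      obtain ⟨i, hi⟩ := F.exists_pow_conj (hH a.2) ha1 hu hu1
      rw [if_neg ha, ← Finset.add_sum_erase _ _ (Finset.mem_univ (1 : V)),
        Finset.sum_congr rfl (g := fun _ => (χ : G → ℂ) (u * v)) fun b hb => ?_, Finset.sum_const,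
        Finset.card_erase_of_mem (Finset.mem_univ _), Finset.card_univ, hV4, nsmul_eq_mul]
      · have : (χ : G → ℂ) (f (a, 1)) = (χ : G → ℂ) u := by
          simpa [hf] using irr_eq_of_isConj χ (isConj_iff.mpr ⟨h ^ i, hi⟩)
        rw [this]
        norm_num
      · have hb1 : (b : G) ≠ 1 := fun e => (Finset.mem_erase.mp hb).1 (Subtype.ext e)
        obtain ⟨j, hj⟩ := F.swap.exists_pow_conj b.2 hb1 hv hv1
        have hc : IsConj ((a : G) * b) (u * v) := isConj_iff.mpr ⟨g ^ j * h ^ i, by
          calc g ^ j * h ^ i * ((a : G) * b) * (g ^ j * h ^ i)⁻¹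
              = (g ^ j * (h ^ i * (a : G) * (h ^ i)⁻¹) * (g ^ j)⁻¹) *
                  (g ^ j * (h ^ i * (b : G) * (h ^ i)⁻¹) * (g ^ j)⁻¹) := by group
            _ = u * v := by rw [hi, F.pow_fix b.2, F.swap.pow_fix hu, hj]⟩
        simpa [hf] using irr_eq_of_isConj χ hc
  rw [Finset.sum_congr rfl fun a _ => hA a, Finset.sum_ite, Finset.sum_const, Finset.sum_const,
    nsmul_eq_mul, nsmul_eq_mul, Finset.filter_eq' Finset.univ (1 : H), if_pos (Finset.mem_univ _),
    Finset.card_singleton, Nat.cast_one, one_mul, Finset.filter_ne' Finset.univ (1 : H),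
    Finset.card_erase_of_mem (Finset.mem_univ _), Finset.card_univ, ← Nat.card_eq_fintype_card,
    Nat.cast_sub (Nat.one_le_iff_ne_zero.mpr Nat.card_pos.ne'), Nat.cast_one, Nat.cast_mul] at hm
  rw [hm]
  push_cast
  ring

/-- The values at `u` and at `u v` agree modulo `4`. -/
theorem Frame.mod_four (F : Frame P U V g h) (χ : IrrCharacter G) {u v : G} (hu : u ∈ U) (hu1 : u ≠ 1)
    (hv : v ∈ V) (hv1 : v ≠ 1) (hu2 : orderOf u = 2) {a c : ℤ}
    (ha : (χ : G → ℂ) u = a) (hc : (χ : G → ℂ) (u * v) = c) : 4 ∣ a - c := by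
  classical
  obtain ⟨m, hm⟩ := F.sum_eq χ hu hu1 hv hv1 U le_rfl
  obtain ⟨m', hm'⟩ := F.sum_eq χ hu hu1 hv hv1 (Subgroup.zpowers u) (Subgroup.zpowers_le.mpr hu)
  rw [F.cardU, ha, hc] at hm
  rw [Nat.card_zpowers, hu2, ha, hc] at hm'
  have h : ((2 * (a + 3 * c) : ℤ) : ℂ) = ((16 * m - 8 * m' : ℤ) : ℂ) := by
    push_cast at hm hm' ⊢
    linear_combination hm - hm'
  have h' := Int.cast_injective h
  omega

end frame

theorem blockDefect_principal (p : ℕ) :
    blockDefect p (principalBlock M G) = (Nat.card G).factorization p := by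
  have h1 : degVal p (oneChar G) = 0 := by simp [degVal, charDegree, oneChar]
  have h0 : minDeg p (principalBlock M G) = 0 :=
    Nat.le_zero.mp (h1 ▸ minDeg_le one_mem_principalBlock)
  show _ - minDeg p (principalBlock M G) = _
  rw [h0, Nat.sub_zero]

variable [Fintype (IrrCharacter G)]

/-- Characters of the principal block do not vanish at a major involution with nilpotent section. -/
theorem value_ne_zero (hM : IsPModular 2 M) {x : G} (hx : orderOf x = 2) {C : Subgroup G}
    [Fintype (IrrCharacter C)] (hC : ∀ t : G, t ∈ C ↔ Commute t x)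
    (hnc : HasNormalPComplement 2 C)
    (hfac : (Nat.card C).factorization 2 = (Nat.card G).factorization 2)
    {χ : IrrCharacter G} (hχ : χ ∈ principalBlock M G) : (χ : G → ℂ) x ≠ 0 := by
  classical
  haveI := Fact.mk Nat.prime_two
  have := Fintype.ofFinite (ConjClasses C)
  intro h0
  have hxp : ∃ k : ℕ, orderOf x = 2 ^ k := ⟨1, by rw [hx]; norm_num⟩
  have hC' : ∀ t : C, Commute (t : G) x := fun t => (hC t).mp t.2
  obtain ⟨B, hB⟩ := exists_induced_centralizer hM hxp hC (isPBlock_principalBlock (M := M) (G := C))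
  rw [(isInducedBlock_principal_iff hM hB).mpr rfl] at hB
  obtain ⟨L, hL, hne, -⟩ := exists_major_lift hM (k := 1) (by rw [hx]; norm_num) hC hB
    (by rw [blockDefect_principal, blockDefect_principal, hfac]) hχ one_mem_principalBlock
  have hone : blockHeight 2 (principalBlock M G) (oneChar G : G → ℂ) = 0 :=
    (blockHeight_principal_eq_zero_iff Nat.prime_two one_mem_principalBlock).mpr
      (by simp [charDegree, oneChar])
  obtain ⟨lam, -, hsec⟩ := exists_secCoeff (p := 2) (k := 1) (by rw [hx]; norm_num) hC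
  have hzero : ∀ y : C, ¬ 2 ∣ orderOf y → (χ : G → ℂ) (x * (y : G)) = 0 := by
    intro y hy
    have h1 := secFun_principal hM hxp hC hχ (y := (1 : C)) (by rw [orderOf_one]; norm_num)
    rw [OneMemClass.coe_one, mul_one, h0, blockPart_secFun_eq hC' (hsec χ)] at h1
    rw [secFun_principal hM hxp hC hχ hy, blockPart_secFun_eq hC' (hsec χ), h1]
    refine Finset.sum_congr rfl fun η hη => ?_
    rw [irr_eq_one_of_regular hM hnc (Finset.mem_filter.mp hη).2 hy]
  have hsc : secContrib 2 x C (principalBlock M C) χ (oneChar G) = 0 := by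
    rw [secContrib_eq_coeff hM isPBlock_principalBlock hC']
    refine mul_eq_zero.mpr (Or.inr (Finset.sum_eq_zero fun θ _ => mul_eq_zero.mpr (Or.inl ?_)))
    rw [classInner, Finset.sum_eq_zero, mul_zero]
    intro y _
    by_cases hy : 2 ∣ orderOf y
    · simp [regFun, hy]
    · simp [regFun, hy, secFun, hzero y hy]
  rw [hsc] at hL
  have hL0 : L = 0 := Subtype.ext (by
    rcases mul_eq_zero.mp hL.symm with e | e
    · exact absurd e (pow_ne_zero _ (by norm_num))
    · rw [e, ZeroMemClass.coe_zero])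
  exact hne hone (by rw [hL0, map_zero])

/-- The local data in the centralizer of an involution in a component. -/
theorem Frame.exists_localData_centralizer (hM : IsPModular 2 M) (S : Sylow 2 G) {U V : Subgroup G}
    {g h : G} (F : Frame (S : Subgroup G) U V g h) (hel : ∀ x : S, x ^ 2 = 1) {u : G} (hu : u ∈ U)
    (hu1 : u ≠ 1) [Fintype (IrrCharacter (Subgroup.centralizer ({u} : Set G)))] :
    ∃ ψ, LocalData M (Subgroup.centralizer ({u} : Set G)) ψ := by
  classical
  haveI := Fact.mk Nat.prime_two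
  obtain ⟨hle, -, -, -⟩ := F.residual S hu hu1
  obtain ⟨Q, hQ, hexp, hone, hidx, hQV⟩ := F.residual_klein S hu hu1 fun w hw => by
    have := congrArg Subtype.val (hel ⟨w, F.leV hw⟩)
    simpa [sq] using this
  haveI : (Cfsg.pResidual 2 (Subgroup.centralizer ({u} : Set G))).Normal := Fusion.pResidual_normal
  refine exists_localData hM _ hidx (fun y hy => Fusion.mem_pResidual
    ((Nat.prime_two.coprime_iff_not_dvd.mpr hy).symm)) Q hQ hexp hone (eq_top_iff.mpr ?_)
  rw [← Fusion.pResidual_sup_sylow (S.subtype hle)]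
  refine sup_le_sup_left (fun t ht => Subgroup.mem_centralizer_iff.mpr ?_) _
  rintro q ⟨q', hq', rfl⟩
  exact Subtype.ext (F.comm _ (F.leV (hQV q' hq')) _ ht)

theorem card_and_rank (hM : IsPModular 2 M) (S : Sylow 2 G) (hcard : Nat.card S = 16)
    (hel : ∀ x : S, x ^ 2 = 1)
    (he : (Subgroup.centralizer ((S : Subgroup G) : Set G)).relIndex
      (Subgroup.normalizer ((S : Subgroup G) : Set G)) = 9) :
    Nat.card (principalBlock M G) = 16 ∧ blockRank 2 (principalBlock M G) = 9 := by
  classical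
  haveI := Fact.mk Nat.prime_two
  have hcomm : ∀ s ∈ (S : Subgroup G), ∀ t ∈ (S : Subgroup G), s * t = t * s := by
    intro s hs t ht
    have hsq : ∀ w ∈ (S : Subgroup G), w⁻¹ = w := fun w hw => by
      have h := congrArg Subtype.val (hel ⟨w, hw⟩)
      simp only [Subgroup.coe_pow, sq] at h
      exact inv_eq_of_mul_eq_one_right h
    calc s * t = (s * t)⁻¹ := (hsq _ (mul_mem hs ht)).symm
      _ = t * s := by rw [mul_inv_rev, hsq s hs, hsq t ht]
  obtain ⟨U, V, g, h, F⟩ := exists_frame hcard hcomm he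
  have hord : ∀ w ∈ (S : Subgroup G), w ≠ 1 → orderOf w = 2 := fun w hw hw1 =>
    orderOf_eq_prime (by simpa using congrArg Subtype.val (hel ⟨w, hw⟩)) hw1
  obtain ⟨u, hu, hu1⟩ : ∃ u ∈ U, u ≠ 1 := by
    refine (Subgroup.ne_bot_iff_exists_ne_one.mp fun e => ?_).elim fun a ha => ⟨a, a.2, fun e' => ha (Subtype.ext (by simpa using e'))⟩
    have := F.cardU
    rw [e, Subgroup.card_bot] at this
    norm_num at this
  obtain ⟨v, hv, hv1⟩ : ∃ v ∈ V, v ≠ 1 := by
    refine (Subgroup.ne_bot_iff_exists_ne_one.mp fun e => ?_).elim fun a ha => ⟨a, a.2, fun e' => ha (Subtype.ext (by simpa using e'))⟩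
    have := F.cardV
    rw [e, Subgroup.card_bot] at this
    norm_num at this
  have huS := F.leU hu
  have hvS := F.leV hv
  have hwS : u * v ∈ (S : Subgroup G) := mul_mem huS hvS
  have hw1 : u * v ≠ 1 := fun e => hu1 (F.eq_of_mul hu U.one_mem hv V.one_mem (by rw [e, mul_one])).1
  have hu2 := hord u huS hu1
  have hv2 := hord v hvS hv1
  have hw2 := hord _ hwS hw1
  have hCiff : ∀ x t : G, t ∈ Subgroup.centralizer ({x} : Set G) ↔ Commute t x := fun x t =>
    Subgroup.mem_centralizer_singleton_iff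
  have hfacS : (Nat.card G).factorization 2 = 4 := by
    have hc := S.card_eq_multiplicity
    rw [hcard] at hc
    exact (Nat.pow_right_injective le_rfl (show (2 : ℕ) ^ 4 = 2 ^ _ from hc)).symm
  letI := Fintype.ofFinite (IrrCharacter (Subgroup.centralizer ({u} : Set G)))
  letI := Fintype.ofFinite (IrrCharacter (Subgroup.centralizer ({v} : Set G)))
  letI := Fintype.ofFinite (IrrCharacter (Subgroup.centralizer ({u * v} : Set G)))
  obtain ⟨ψu, Du⟩ := F.exists_localData_centralizer hM S hel hu hu1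
  obtain ⟨ψv, Dv⟩ := F.swap.exists_localData_centralizer hM S hel hv hv1
  obtain ⟨zu, Zu⟩ := exists_columnData hM hu2 (hCiff u) Du
  obtain ⟨zv, Zv⟩ := exists_columnData hM hv2 (hCiff v) Dv
  -- the column of `u v`
  set Cw := Subgroup.centralizer ({u * v} : Set G) with hCw
  have hnc : HasNormalPComplement 2 Cw := F.complement S hu hu1 hv hv1
  have hfacw : (Nat.card Cw).factorization 2 = (Nat.card G).factorization 2 := by
    have hle : (S : Subgroup G) ≤ Cw := fun t ht => (hCiff _ _).mpr (hcomm t ht _ hwS)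
    have h1 := (S.subtype hle).card_eq_multiplicity
    rw [Sylow.coe_subtype, Nat.card_congr (Subgroup.subgroupOfEquivOfLe hle).toEquiv, hcard] at h1
    rw [hfacS]
    exact (Nat.pow_right_injective le_rfl (show (2 : ℕ) ^ 4 = 2 ^ _ from h1)).symm
  have hint : ∀ (χ : IrrCharacter G) (x : G), orderOf x = 2 → ∃ n : ℤ, (χ : G → ℂ) x = n ∧
      (2 : ℤ) ∣ (charDegree (χ : G → ℂ) : ℤ) - n := fun χ x hx =>
    exists_int_at_involution χ (by rw [← hx, pow_orderOf_eq_one])
  choose cv hcv hcvp using fun χ : principalBlock M G => hint χ (u * v) hw2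
  let X : principalBlock M G → ℤ := fun χ => charDegree ((χ : IrrCharacter G) : G → ℂ)
  have hX : ∀ χ, (X χ : ℂ) = ((χ : IrrCharacter G) : G → ℂ) 1 := fun χ => by
    simp only [X, Int.cast_natCast]
    exact (charDegree_eq _).1.symm
  obtain ⟨hne_uv, hne_uw, hne_vw⟩ := F.not_conj_mix S hu hv hu1 hv1
  -- orthogonality of different sections
  have hS := IsBlockUnion.of_isPBlock (isPBlock_principalBlock (M := M) (G := G))
  have horth : ∀ {x x' s t : G}, IsPPart 2 s x → IsPPart 2 t x' → ¬ IsConj x x' →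
      ∑ χ : principalBlock M G, ((χ : IrrCharacter G) : G → ℂ) s *
        conj (((χ : IrrCharacter G) : G → ℂ) t) = 0 := by
    intro x x' s t hs ht hne
    rw [← blockUnion_orthogonal_conj hM hS hs ht hne, ← finsum_set_coe_eq_finsum_mem,
      finsum_eq_sum_of_fintype]
  have hsec : ∀ {x : G}, orderOf x = 2 → ∀ y : Subgroup.centralizer ({x} : Set G),
      ¬ 2 ∣ orderOf y → IsPPart 2 (x * (y : G)) x := fun {x} hx y hy =>
    isPPart_secElt (k := 1) (by rw [hx]; norm_num) (fun t => (hCiff x t).mp t.2) hy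
  have hself : ∀ {x : G}, orderOf x = 2 → IsPPart 2 x x := fun {x} hx =>
    isPPart_one_mul ⟨1, by rw [hx]; norm_num⟩ (by norm_num)
  have hone : IsPPart 2 (1 : G) 1 := isPPart_one_of_not_dvd (by rw [orderOf_one]; norm_num)
  have hcross : ∀ {x : G} {z : Fin 3 → principalBlock M G → ℤ},
      ColumnData M G x (Subgroup.centralizer ({x} : Set G)) z → orderOf x = 2 →
      ∀ (i : Fin 3) {t x' : G}, IsPPart 2 t x' → ¬ IsConj x x' →
        ∑ χ : principalBlock M G, (z i χ : ℂ) * conj (((χ : IrrCharacter G) : G → ℂ) t) = 0 := by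
    intro x z Z hx i t x' ht hne
    obtain ⟨w, hw0, hw⟩ := Z.comb i
    simp only [hw, Finset.sum_mul]
    rw [Finset.sum_comm]
    refine Finset.sum_eq_zero fun y _ => ?_
    by_cases hy : 2 ∣ orderOf y
    · simp [hw0 y hy]
    · rw [Finset.sum_congr rfl fun χ _ => mul_assoc _ _ _, ← Finset.mul_sum,
        horth (hsec hx y hy) ht hne, mul_zero]
  -- the arithmetic data
  have hcols : Cols (⟨oneChar G, one_mem_principalBlock⟩ : principalBlock M G) cv zu zv X := by
    have hX1 : ¬ IsConj (u * v) 1 := fun e => hw1 (isConj_one_left.mp e)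
    refine ⟨fun χ h0 => ?_, ?_, fun j => Zu.triv j _ rfl, fun j => Zv.triv j _ rfl, ?_, fun χ => ?_,
      ?_, Zu.orth, Zv.orth, fun j => ?_, fun j => ?_, fun j l => ?_, ?_, fun j => ?_, fun j => ?_,
      fun j χ => ?_, fun j χ => ?_, fun χ => ?_, fun χ => ?_⟩
    · refine value_ne_zero hM hw2 (hCiff (u * v)) hnc hfacw χ.2 ?_
      rw [hcv χ, h0, Int.cast_zero]
    · apply Int.cast_injective (α := ℂ)
      rw [← hcv]
      simp [oneChar]
    · simp [X, charDegree, oneChar]
    · have := (charDegree_eq ((χ : IrrCharacter G))).2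
      simp only [X]
      omega
    · apply Int.cast_injective (α := ℂ)
      push_cast
      have h1 := sum_principal_secFun hM (C := Cw) ⟨1, by rw [hw2]; norm_num⟩ (hCiff (u * v))
        (y := 1) (z := 1) (by rw [orderOf_one]; norm_num) (by rw [orderOf_one]; norm_num)
      have := Fintype.ofFinite (ConjClasses Cw)
      rw [OneMemClass.coe_one, mul_one, ← finsum_set_coe_eq_finsum_mem, finsum_eq_sum_of_fintype] at h1
      simp only [hcv, map_intCast, Char.conj_irr_one] at h1
      rw [h1, finsum_mem_eq_finite_toFinset_sum _ (principalBlock M Cw).toFinite,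
        sum_sq_principal_of_complement hM hnc, hfacw, hfacS]
      norm_num
    · apply Int.cast_injective (α := ℂ)
      push_cast
      rw [← hcross Zu hu2 j (hself hw2) hne_uw]
      exact Finset.sum_congr rfl fun χ _ => by rw [hcv, map_intCast]; ring
    · apply Int.cast_injective (α := ℂ)
      push_cast
      rw [← hcross Zv hv2 j (hself hw2) hne_vw]
      exact Finset.sum_congr rfl fun χ _ => by rw [hcv, map_intCast]; ring
    · apply Int.cast_injective (α := ℂ)
      push_cast
      obtain ⟨w', hw'0, hw'⟩ := Zv.comb l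
      rw [Finset.sum_congr rfl fun χ _ => by rw [← map_intCast (starRingEnd ℂ) (zv l χ), hw', map_sum,
        Finset.mul_sum], Finset.sum_comm]
      refine Finset.sum_eq_zero fun y _ => ?_
      by_cases hy : 2 ∣ orderOf y
      · simp [hw'0 y hy]
      · rw [Finset.sum_congr rfl (g := fun χ => conj (w' y) *
          ((zu j χ : ℂ) * conj (((χ : IrrCharacter G) : G → ℂ) (v * (y : G)))))
          fun χ _ => by rw [map_mul]; ring, ← Finset.mul_sum, hcross Zu hu2 j (hsec hv2 y hy) hne_uv,
          mul_zero]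
    · apply Int.cast_injective (α := ℂ)
      push_cast
      rw [← horth (hself hw2) hone hX1]
      exact Finset.sum_congr rfl fun χ _ => by rw [hcv, hX, Char.conj_irr_one]; ring
    · apply Int.cast_injective (α := ℂ)
      push_cast
      rw [← hcross Zu hu2 j hone fun e => hu1 (isConj_one_left.mp e)]
      exact Finset.sum_congr rfl fun χ _ => by rw [hX, Char.conj_irr_one]; ring
    · apply Int.cast_injective (α := ℂ)
      push_cast
      rw [← hcross Zv hv2 j hone fun e => hv1 (isConj_one_left.mp e)]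
      exact Finset.sum_congr rfl fun χ _ => by rw [hX, Char.conj_irr_one]; ring
    · obtain ⟨a, ha, hpar, -⟩ := Zu.value χ
      obtain ⟨n, hn, hn2⟩ := hint (χ : IrrCharacter G) u hu2
      obtain rfl : a = n := Int.cast_injective (ha.symm.trans hn)
      have := hpar j
      have := hcvp χ
      omega
    · obtain ⟨a, ha, hpar, -⟩ := Zv.value χ
      obtain ⟨n, hn, hn2⟩ := hint (χ : IrrCharacter G) v hv2
      obtain rfl : a = n := Int.cast_injective (ha.symm.trans hn)
      have := hpar j
      have := hcvp χ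
      omega
    · obtain ⟨a, ha, -, hmod⟩ := Zu.value χ
      have := F.mod_four (χ : IrrCharacter G) hu hu1 hv hv1 hu2 ha (hcv χ)
      omega
    · obtain ⟨a, ha, -, hmod⟩ := Zv.value χ
      have := F.swap.mod_four (χ : IrrCharacter G) hv hv1 hu hu1 hv2 ha
        (by rw [hcomm v hvS u huS]; exact hcv χ)
      omega
  -- counting with subsections
  have hT : ∀ {x : G}, orderOf x = 2 →
      ∑ᶠ b ∈ {b : Set (IrrCharacter (Subgroup.centralizer ({x} : Set G))) |
        IsInducedBlock M (Subgroup.centralizer ({x} : Set G)) b (principalBlock M G)}, blockRank 2 b =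
      blockRank 2 (principalBlock M (Subgroup.centralizer ({x} : Set G))) := by
    intro x hx
    haveI := Fintype.ofFinite (IrrCharacter (Subgroup.centralizer ({x} : Set G)))
    obtain ⟨B, hB⟩ := exists_induced_centralizer hM ⟨1, by rw [hx]; norm_num⟩ (hCiff x)
      (isPBlock_principalBlock (M := M) (G := Subgroup.centralizer ({x} : Set G)))
    rw [(isInducedBlock_principal_iff hM hB).mpr rfl] at hB
    rw [show {b : Set (IrrCharacter (Subgroup.centralizer ({x} : Set G))) |
        IsInducedBlock M (Subgroup.centralizer ({x} : Set G)) b (principalBlock M G)} =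
      {principalBlock M (Subgroup.centralizer ({x} : Set G))} from Set.ext fun b =>
        ⟨fun hb => (isInducedBlock_principal_iff hM hb).mp rfl,
          fun hb => by rw [Set.mem_singleton_iff.mp hb]; exact hB⟩, finsum_mem_singleton]
  have hne1 : ∀ {x : G}, x ≠ 1 → ¬ IsConj (1 : G) x := fun hx e => hx (isConj_one_right.mp e)
  have hk := card_block_eq_sum_rank hM (isPBlock_principalBlock (M := M) (G := G)) {1, u, v, u * v}
    (fun x hx => by
      simp only [Finset.mem_insert, Finset.mem_singleton] at hx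
      rcases hx with rfl | rfl | rfl | rfl
      exacts [⟨0, by simp⟩, ⟨1, by rw [hu2]; norm_num⟩, ⟨1, by rw [hv2]; norm_num⟩,
        ⟨1, by rw [hw2]; norm_num⟩])
    (fun t ht => by
      obtain ⟨k, hk⟩ := ht
      obtain ⟨T, hT⟩ := (IsPGroup.of_card (n := k) (by rw [Nat.card_zpowers, hk]) :
        IsPGroup 2 (Subgroup.zpowers t)).exists_le_sylow
      obtain ⟨c, hc⟩ := MulAction.exists_smul_eq G T S
      have hmem : c * t * c⁻¹ ∈ (S : Subgroup G) := by
        rw [← hc, Sylow.coe_subgroup_smul]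
        exact Subgroup.smul_mem_pointwise_smul t (MulAut.conj c) _ (hT (Subgroup.mem_zpowers t))
      have hct : IsConj t (c * t * c⁻¹) := isConj_iff.mpr ⟨c, rfl⟩
      obtain ⟨r, hr, htr⟩ : ∃ r ∈ ({1, u, v, u * v} : Finset G), IsConj t r := by
        rcases F.class_cases hu hu1 hv hv1 hmem with e | e | e | e
        · exact ⟨1, by simp, e ▸ hct⟩
        · exact ⟨u, by simp, hct.trans e⟩
        · exact ⟨v, by simp, hct.trans e⟩
        · exact ⟨u * v, by simp, hct.trans e⟩
      refine ⟨r, ⟨hr, htr⟩, fun r' hr' => ?_⟩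
      have hcc : IsConj r r' := htr.symm.trans hr'.2
      have hr'1 := hr'.1
      simp only [Finset.mem_insert, Finset.mem_singleton] at hr hr'1
      rcases hr with rfl | rfl | rfl | rfl <;> rcases hr'1 with rfl | rfl | rfl | rfl <;>
        first
        | rfl
        | exact absurd hcc (hne1 ‹_›)
        | exact absurd hcc.symm (hne1 ‹_›)
        | exact absurd hcc hne_uv | exact absurd hcc.symm hne_uv
        | exact absurd hcc hne_uw | exact absurd hcc.symm hne_uw
        | exact absurd hcc hne_vw | exact absurd hcc.symm hne_vw)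
  rw [Finset.sum_insert (by simp [Ne.symm hu1, Ne.symm hv1, Ne.symm hw1]),
    Finset.sum_insert (by simp [hv1, show u ≠ v from fun e => hne_uv (e ▸ IsConj.refl u)]),
    Finset.sum_pair (fun e => hne_vw (by rw [← e])), hT hu2, hT hv2, hT hw2, Du.rank hM, Dv.rank hM,
    (blockRank_principal_eq_one_iff hM).mpr hnc] at hk
  have hone' := ChainCount.lRank_one hM (isPBlock_principalBlock (M := M) (G := G))
  have hl := Nat.cast_injective (R := ℤ)
    (((Nat.castAddMonoidHom ℤ).map_finsum_mem _ (Set.toFinite _)).trans hone')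
  rw [hl] at hk
  have hpos : 0 < blockRank 2 (principalBlock M G) := by
    rw [blockRank, Module.finrank_pos_iff]
    refine ⟨⟨⟨pRegularPart 2 ((oneChar G : IrrCharacter G) : G → ℂ),
      Submodule.subset_span ⟨oneChar G, one_mem_principalBlock, rfl⟩⟩, 0, fun e => ?_⟩⟩
    have := congrFun (congrArg Subtype.val e) 1
    simp [pRegularPart, IsPRegular, oneChar] at this
  have h16 := hcols.card_eq (by rw [← Nat.card_eq_fintype_card, hk]; omega)
  rw [← Nat.card_eq_fintype_card] at h16
  refine ⟨h16, ?_⟩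
  rw [h16] at hk
  omega

end CfsgLib.Char.InertiaNine
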