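import Mathlib.Algebra.BigOperators.Fin
import Mathlib.Data.Fintype.BigOperators
import Mathlib.Data.Rat.Cast.Order
import Mathlib.LinearAlgebra.Matrix.NonsingularInverse
import Mathlib.Tactic.FinCases
import Mathlib.Tactic.Linarith
import Mathlib.Tactic.LinearCombination
import Mathlib.Tactic.Positivity

/-!
# Seven orthogonal integral vectors of norm sixteen

Arithmetic part of the theorem that a principal 2-block with elementary abelian Sylow subgroup of
order 16 and inertial index 9 has 16 irreducible characters.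
-/

set_option autoImplicit false
set_option linter.unusedSectionVars false

namespace CfsgLib.Char.InertiaNine

open Finset

variable {ι : Type*} [Fintype ι] [DecidableEq ι]

/-- The seven columns and the column of degrees. -/
structure Cols (i0 : ι) (c : ι → ℤ) (z w : Fin 3 → ι → ℤ) (X : ι → ℤ) : Prop where
  cne : ∀ i, c i ≠ 0
  cone : c i0 = 1
  zone : ∀ j, z j i0 = -1
  wone : ∀ j, w j i0 = -1
  xone : X i0 = 1
  xpos : ∀ i, 0 < X i
  cc : ∑ i, c i * c i = 16
  zz : ∀ j l, ∑ i, z j i * z l i = if j = l then 16 else 0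
  ww : ∀ j l, ∑ i, w j i * w l i = if j = l then 16 else 0
  cz : ∀ j, ∑ i, c i * z j i = 0
  cw : ∀ j, ∑ i, c i * w j i = 0
  zw : ∀ j l, ∑ i, z j i * w l i = 0
  xc : ∑ i, X i * c i = 0
  xz : ∀ j, ∑ i, X i * z j i = 0
  xw : ∀ j, ∑ i, X i * w j i = 0
  pz : ∀ j i, 2 ∣ z j i - c i
  pw : ∀ j i, 2 ∣ w j i - c i
  mz : ∀ i, 4 ∣ z 0 i + z 1 i + z 2 i - c i
  mw : ∀ i, 4 ∣ w 0 i + w 1 i + w 2 i - c i

variable {i0 : ι} {c : ι → ℤ} {z w : Fin 3 → ι → ℤ} {X : ι → ℤ}

/-- The vectors as one family. -/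
def fam (c : ι → ℤ) (z w : Fin 3 → ι → ℤ) : Fin 7 → ι → ℤ :=
  ![c, z 0, z 1, z 2, w 0, w 1, w 2]

theorem Cols.orth (h : Cols i0 c z w X) (u v : Fin 7) :
    ∑ i, fam c z w u i * fam c z w v i = if u = v then 16 else 0 := by
  have hzc : ∀ j, ∑ i, z j i * c i = 0 := fun j => by simpa only [mul_comm] using h.cz j
  have hwc : ∀ j, ∑ i, w j i * c i = 0 := fun j => by simpa only [mul_comm] using h.cw j
  have hwz : ∀ j l, ∑ i, w j i * z l i = 0 := fun j l => by simpa only [mul_comm] using h.zw l j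
  fin_cases u <;> fin_cases v <;>
    simp [fam, h.cc, h.zz, h.ww, h.cz, h.cw, h.zw, hzc, hwc, hwz]

theorem Cols.xorth (h : Cols i0 c z w X) (u : Fin 7) : ∑ i, X i * fam c z w u i = 0 := by
  fin_cases u <;> simp [fam, h.xc, h.xz, h.xw]

/-- Bessel's inequality at a point. -/
theorem Cols.bessel (h : Cols i0 c z w X) (i : ι) :
    c i ^ 2 + ∑ j, z j i ^ 2 + ∑ j, w j i ^ 2 ≤ 15 := by
  set F := fam c z w with hF
  set T := ∑ l, X l * X l with hT
  set S := ∑ u, F u i * F u i with hS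
  have hT0 : 0 < T := Finset.sum_pos (fun l _ => mul_pos (h.xpos l) (h.xpos l)) ⟨i, mem_univ _⟩
  let r : ι → ℤ := fun l => ∑ u, F u i * F u l
  let d : ι → ℤ := fun l => if l = i then 1 else 0
  have e1 : ∑ l, r l * r l = 16 * S := by
    calc ∑ l, r l * r l = ∑ l, ∑ u, ∑ v, F u i * F v i * (F u l * F v l) := by
          refine Finset.sum_congr rfl fun l _ => ?_
          simp only [r, Finset.sum_mul_sum]
          exact Finset.sum_congr rfl fun u _ => Finset.sum_congr rfl fun v _ => by ring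
      _ = ∑ u, ∑ v, F u i * F v i * ∑ l, F u l * F v l := by
          rw [Finset.sum_comm]
          refine Finset.sum_congr rfl fun u _ => ?_
          rw [Finset.sum_comm]
          simp only [Finset.mul_sum]
      _ = 16 * S := by
          simp only [hF, h.orth, mul_ite, mul_zero, Finset.sum_ite_eq, Finset.mem_univ, if_true]
          rw [hS, hF, Finset.mul_sum]
          exact Finset.sum_congr rfl fun u _ => by ring
  have e2 : ∑ l, r l * X l = 0 := by
    simp only [r, Finset.sum_mul]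
    rw [Finset.sum_comm]
    refine Finset.sum_eq_zero fun u _ => ?_
    rw [Finset.sum_congr rfl (g := fun l => F u i * (X l * F u l)) fun l _ => by ring,
      ← Finset.mul_sum, hF, h.xorth, mul_zero]
  have e3 : ∑ l, d l * r l = S := by simp [d, r, hS]
  have e4 : ∑ l, d l * X l = X i := by simp [d]
  have e5 : ∑ l, d l * d l = 1 := by simp [d]
  have key : 0 ≤ ∑ l, (16 * T * d l - T * r l - 16 * X i * X l) ^ 2 :=
    Finset.sum_nonneg fun l _ => sq_nonneg _
  have hexp : ∑ l, (16 * T * d l - T * r l - 16 * X i * X l) ^ 2 =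
      256 * T ^ 2 * ∑ l, d l * d l + T ^ 2 * ∑ l, r l * r l + 256 * X i ^ 2 * ∑ l, X l * X l
        - 32 * T ^ 2 * ∑ l, d l * r l - 512 * T * X i * ∑ l, d l * X l
        + 32 * T * X i * ∑ l, r l * X l := by
    simp only [Finset.mul_sum, ← Finset.sum_add_distrib, ← Finset.sum_sub_distrib]
    exact Finset.sum_congr rfl fun l _ => by ring
  rw [hexp, e1, e2, e3, e4, e5, ← hT] at key
  have hmain : T * S + 16 * X i ^ 2 ≤ 16 * T := by
    by_contra hc
    rw [not_le] at hc
    nlinarith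
  have hlt : S < 16 := by
    have := h.xpos i
    by_contra hc
    rw [not_lt] at hc
    nlinarith
  have hsum : S = c i ^ 2 + ∑ j, z j i ^ 2 + ∑ j, w j i ^ 2 := by
    simp only [hS, hF, fam, Fin.sum_univ_seven, Fin.sum_univ_three]
    simp [sq]
    ring
  omega

theorem odd_sq_mod_eight {x : ℤ} (hx : ¬ 2 ∣ x) : 8 ∣ x * x - 1 := by
  obtain ⟨k, rfl⟩ : ∃ k, x = 2 * k + 1 := ⟨x / 2, by omega⟩
  obtain ⟨m, hm⟩ := Int.even_mul_succ_self k
  exact ⟨m, by linear_combination 4 * hm⟩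

theorem Cols.abs_le (h : Cols i0 c z w X) (i : ι) :
    (∀ j, z j i ^ 2 ≤ 15) ∧ (∀ j, w j i ^ 2 ≤ 15) ∧ c i ^ 2 ≤ 15 := by
  have hb := h.bessel i
  have hz : 0 ≤ ∑ j, z j i ^ 2 := Finset.sum_nonneg fun _ _ => sq_nonneg _
  have hw : 0 ≤ ∑ j, w j i ^ 2 := Finset.sum_nonneg fun _ _ => sq_nonneg _
  refine ⟨fun j => ?_, fun j => ?_, by nlinarith [sq_nonneg (c i)]⟩
  · have := Finset.single_le_sum (fun l _ => sq_nonneg (z l i)) (Finset.mem_univ j)
    nlinarith [sq_nonneg (c i)]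
  · have := Finset.single_le_sum (fun l _ => sq_nonneg (w l i)) (Finset.mem_univ j)
    nlinarith [sq_nonneg (c i)]

theorem range_of_sq_le {x : ℤ} (hx : x ^ 2 ≤ 15) : -3 ≤ x ∧ x ≤ 3 := by
  constructor <;> nlinarith

theorem one_le_sq {x : ℤ} (hx : ¬ 2 ∣ x) : 1 ≤ x ^ 2 := by
  have h : x ≠ 0 := by rintro rfl; simp at hx
  nlinarith [mul_self_pos.mpr h]

/-- Signs on eight positions and the two even positions. -/
theorem pick_shape (O : Finset ι) (e₁ e₂ : ι) (hO : O.card = 8) (hne : e₁ ≠ e₂)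
    (huniv : ∀ i, i ∈ O ∨ i = e₁ ∨ i = e₂) (h1O : e₁ ∉ O) (h2O : e₂ ∉ O) {c a b b' : ι → ℤ}
    (hc : ∀ i ∈ O, c i = 1 ∨ c i = -1) (hc1 : c e₁ = 2 ∨ c e₁ = -2) (hc2 : c e₂ = 2 ∨ c e₂ = -2)
    (ha : ∀ i ∈ O, a i = 1 ∨ a i = -1) (ha1 : a e₁ = 2 ∨ a e₁ = -2) (ha2 : a e₂ = 2 ∨ a e₂ = -2)
    (hb1 : b e₁ = 0 ∧ b' e₁ = 0) (hb2 : b e₂ = 0 ∧ b' e₂ = 0)
    (hbo : ∀ i ∈ O, ¬ 2 ∣ b i ∧ ¬ 2 ∣ b' i ∧ b i ^ 2 + b' i ^ 2 ≤ 13)
    (hmod : ∀ i ∈ O, 4 ∣ a i + b i + b' i - c i)
    (hac : ∑ i, a i * c i = 0) (hbc : ∑ i, b i * c i = 0) (hbc' : ∑ i, b' i * c i = 0)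
    (hab : ∑ i, a i * b i = 0) (hab' : ∑ i, a i * b' i = 0) (hbb : ∑ i, b i * b i = 16)
    (hbb' : ∑ i, b' i * b' i = 16) (hbbb : ∑ i, b i * b' i = 0) :
    ∃ σ : ℤ, (σ = 1 ∨ σ = -1) ∧ (∀ i ∈ O, a i = σ * c i) ∧
      a e₁ * c e₁ = -4 * σ ∧ a e₂ * c e₂ = -4 * σ := by
  have hu : (Finset.univ : Finset ι) = insert e₁ (insert e₂ O) := by
    ext i
    rcases huniv i with hi | rfl | rfl <;> simp [*]
  have hsplit : ∀ f : ι → ℤ, ∑ i, f i = f e₁ + f e₂ + ∑ i ∈ O, f i := fun f => by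
    rw [hu, Finset.sum_insert (by simp [hne, h1O]), Finset.sum_insert h2O, add_assoc]
  set D := O.filter fun i => a i ≠ c i with hD
  have hterm : ∀ i ∈ O, a i * c i = if a i ≠ c i then -1 else 1 := fun i hi => by
    rcases ha i hi with e | e <;> rcases hc i hi with f | f <;> simp [e, f]
  have hsum : ∑ i ∈ O, a i * c i = 8 - 2 * (D.card : ℤ) := by
    rw [Finset.sum_congr rfl hterm, Finset.sum_ite, Finset.sum_const, Finset.sum_const, ← hD,
      nsmul_eq_mul, nsmul_eq_mul]
    have := Finset.card_filter_add_card_filter_not (s := O) (fun i => a i ≠ c i)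
    rw [← hD, hO] at this
    have h' : ((O.filter fun i => ¬ a i ≠ c i).card : ℤ) = 8 - D.card := by omega
    rw [h']
    ring
  have h0 := hsplit fun i => a i * c i
  rw [hac, hsum] at h0
  have hA1 : a e₁ * c e₁ = 4 ∨ a e₁ * c e₁ = -4 := by
    rcases ha1 with e | e <;> rcases hc1 with f | f <;> simp [e, f]
  have hA2 : a e₂ * c e₂ = 4 ∨ a e₂ * c e₂ = -4 := by
    rcases ha2 with e | e <;> rcases hc2 with f | f <;> simp [e, f]
  have hDle : D.card ≤ 8 := hO ▸ Finset.card_filter_le _ _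
  have hcases : D.card = 0 ∨ D.card = 4 ∨ D.card = 8 := by omega
  rcases hcases with hD0 | hD4 | hD8
  · refine ⟨1, Or.inl rfl, fun i hi => ?_, by omega, by omega⟩
    rw [one_mul]
    by_contra hne'
    have : i ∈ D := Finset.mem_filter.mpr ⟨hi, hne'⟩
    rw [Finset.card_eq_zero.mp hD0] at this
    simp at this
  · exfalso
    let y : ι → ℤ := fun i => (b i + b' i) / 2
    have hy : ∀ i, 2 * y i = b i + b' i := fun i => by
      have h2 : 2 ∣ b i + b' i := by
        rcases huniv i with hi | rfl | rfl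
        · have := hbo i hi; omega
        · simp [hb1]
        · simp [hb2]
      simp only [y]
      omega
    have hy1 : y e₁ = 0 := by simp [y, hb1]
    have hy2 : y e₂ = 0 := by simp [y, hb2]
    have hyy : ∑ i, y i * y i = 8 := by
      have : (4 : ℤ) * ∑ i, y i * y i = 32 := by
        rw [Finset.mul_sum, Finset.sum_congr rfl (g := fun i => b i * b i + b' i * b' i + 2 * (b i * b' i))
          fun i _ => by linear_combination (2 * y i + b i + b' i) * hy i,
          Finset.sum_add_distrib, Finset.sum_add_distrib, ← Finset.mul_sum, hbb, hbb', hbbb]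
        ring
      omega
    have hyc : ∑ i, y i * (a i + c i) = 0 := by
      have : (2 : ℤ) * ∑ i, y i * (a i + c i) = 0 := by
        rw [Finset.mul_sum, Finset.sum_congr rfl
          (g := fun i => a i * b i + a i * b' i + (b i * c i + b' i * c i))
          fun i _ => by linear_combination (a i + c i) * hy i,
          Finset.sum_add_distrib, Finset.sum_add_distrib, Finset.sum_add_distrib, hab, hab', hbc, hbc']
        ring
      omega
    rw [hsplit] at hyc hyy
    simp only [hy1, hy2, zero_mul, zero_add] at hyc hyy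
    rw [
      ← Finset.sum_sdiff (Finset.filter_subset (fun i => a i ≠ c i) O)] at hyc hyy
    rw [← hD] at hyc hyy
    have hDz : ∑ i ∈ D, y i * (a i + c i) = 0 := Finset.sum_eq_zero fun i hi => by
      obtain ⟨hiO, hne'⟩ := Finset.mem_filter.mp hi
      rcases ha i hiO with e | e <;> rcases hc i hiO with f | f <;> rw [e, f] at hne' ⊢ <;> omega
    have hysq : ∀ i ∈ O, y i ^ 2 ≤ 4 := fun i hi => by
      obtain ⟨h1, h2, h3⟩ := hbo i hi
      have hr := range_of_sq_le (x := b i) (by nlinarith [one_le_sq h2])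
      have hr' := range_of_sq_le (x := b' i) (by nlinarith [one_le_sq h1])
      have hb : b i = -3 ∨ b i = -1 ∨ b i = 1 ∨ b i = 3 := by omega
      have hb' : b' i = -3 ∨ b' i = -1 ∨ b' i = 1 ∨ b' i = 3 := by omega
      have h4 := hy i
      have hy2 : y i = -2 ∨ y i = -1 ∨ y i = 0 ∨ y i = 1 ∨ y i = 2 := by
        rcases hb with e | e | e | e <;> rcases hb' with f | f | f | f <;>
          rw [e, f] at h3 h4 <;> omega
      rcases hy2 with e | e | e | e | e <;> simp [e]
    have hDy : ∑ i ∈ D, y i * y i = 4 := by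
      rw [Finset.sum_congr rfl (g := fun _ => (1 : ℤ)) fun i hi => ?_]
      · simp [hD4]
      · obtain ⟨hiO, hne'⟩ := Finset.mem_filter.mp hi
        have := hy i
        have hm := hmod i hiO
        have hr : -2 ≤ y i ∧ y i ≤ 2 := by constructor <;> nlinarith [hysq i hiO]
        have : y i = 1 ∨ y i = -1 := by
          rcases ha i hiO with e | e <;> rcases hc i hiO with f | f <;> rw [e, f] at hm hne' <;> omega
        rcases this with e | e <;> simp [e]
    have heven : ∀ i ∈ O \ D, a i = c i ∧ (y i = 0 ∨ y i = 2 ∨ y i = -2) := fun i hi => by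
      obtain ⟨hiO, hnD⟩ := Finset.mem_sdiff.mp hi
      have he : a i = c i := by
        by_contra hne'
        exact hnD (Finset.mem_filter.mpr ⟨hiO, hne'⟩)
      have := hy i
      have hm := hmod i hiO
      have hr : -2 ≤ y i ∧ y i ≤ 2 := by constructor <;> nlinarith [hysq i hiO]
      refine ⟨he, ?_⟩
      omega
    rw [hDz, add_zero] at hyc
    rw [hDy] at hyy
    have h4 : ∑ i ∈ O \ D, y i * y i = 4 := by linarith
    obtain ⟨q, hq, hq0⟩ : ∃ q ∈ O \ D, y q * y q ≠ 0 :=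
      Finset.exists_ne_zero_of_sum_ne_zero (by rw [h4]; norm_num)
    have hq4 : y q * y q = 4 := by
      rcases (heven q hq).2 with e | e | e <;> simp [e] at hq0 ⊢
    have hrest : ∀ i ∈ O \ D, i ≠ q → y i = 0 := fun i hi hiq => by
      have hle := Finset.add_le_sum (s := O \ D) (f := fun l => y l * y l)
        (fun l _ => mul_self_nonneg (y l)) hi hq hiq
      rw [h4, hq4] at hle
      have := mul_self_nonneg (y i)
      nlinarith
    rw [Finset.sum_eq_single q (fun i hi hiq => by simp [hrest i hi hiq]) (fun h => absurd hq h)]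
      at hyc
    rw [(heven q hq).1] at hyc
    rcases hc q (Finset.mem_sdiff.mp hq).1 with f | f <;>
      rcases (heven q hq).2 with e | e | e <;> rw [e] at hyc hq4 <;> rw [f] at hyc <;> omega
  · refine ⟨-1, Or.inr rfl, fun i hi => ?_, by omega, by omega⟩
    have hall : D = O := Finset.eq_of_subset_of_card_le (Finset.filter_subset _ _) (by omega)
    have hne' : a i ≠ c i := (Finset.mem_filter.mp (hall ▸ hi : i ∈ D)).2
    rcases ha i hi with e | e <;> rcases hc i hi with f | f <;> rw [e, f] at hne' ⊢ <;> omega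

/-- A sum of squares with odd summands. -/
theorem sum_sq_mod_eight (O : Finset ι) (f : ι → ℤ) (hf : ∀ i ∈ O, ¬ 2 ∣ f i) :
    8 ∣ (∑ i ∈ O, f i * f i) - O.card := by
  rw [Finset.cast_card, ← Finset.sum_sub_distrib]
  exact Finset.dvd_sum fun i hi => odd_sq_mod_eight (hf i hi)

/-- Odd summands of total at most `|O|` are signs. -/
theorem signs_of_sum_sq_le (O : Finset ι) (f : ι → ℤ) (hf : ∀ i ∈ O, ¬ 2 ∣ f i)
    (h : ∑ i ∈ O, f i * f i ≤ O.card) {i : ι} (hi : i ∈ O) : f i = 1 ∨ f i = -1 := by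
  have hnn : ∀ l ∈ O, 0 ≤ f l * f l - 1 := fun l hl => by
    nlinarith [one_le_sq (hf l hl)]
  have h1 := Finset.single_le_sum hnn hi
  rw [Finset.sum_sub_distrib, Finset.sum_const, nsmul_eq_mul, mul_one] at h1
  have h2 : f i ^ 2 ≤ 15 := by nlinarith
  have := range_of_sq_le h2
  have hfi := hf i hi
  have : f i = -3 ∨ f i = -1 ∨ f i = 1 ∨ f i = 3 := by omega
  rcases this with e | e | e | e <;> rw [e] at h1 ⊢ <;> omega

/-- One of the two triples in the case of ten characters. -/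
theorem triple_shape (O : Finset ι) (e₁ e₂ : ι) (hO : O.card = 8) (hne : e₁ ≠ e₂)
    (huniv : ∀ i, i ∈ O ∨ i = e₁ ∨ i = e₂) (h1O : e₁ ∉ O) (h2O : e₂ ∉ O) {c : ι → ℤ}
    {z : Fin 3 → ι → ℤ} (hc : ∀ i ∈ O, c i = 1 ∨ c i = -1) (hc1 : c e₁ = 2 ∨ c e₁ = -2)
    (hc2 : c e₂ = 2 ∨ c e₂ = -2)
    (hzz : ∀ j l, ∑ i, z j i * z l i = if j = l then 16 else 0)
    (hcz : ∀ j, ∑ i, c i * z j i = 0) (hp : ∀ j i, 2 ∣ z j i - c i)
    (hm : ∀ i, 4 ∣ z 0 i + z 1 i + z 2 i - c i) (hb : ∀ i, c i ^ 2 + ∑ j, z j i ^ 2 ≤ 15) :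
    ∃ (a : ι → ℤ) (σ : ℤ), (σ = 1 ∨ σ = -1) ∧ (∃ j, a = z j) ∧ (∀ i ∈ O, a i = σ * c i) ∧
      a e₁ * c e₁ = -4 * σ ∧ a e₂ * c e₂ = -4 * σ := by
  have hu : (Finset.univ : Finset ι) = insert e₁ (insert e₂ O) := by
    ext i
    rcases huniv i with hi | rfl | rfl <;> simp [*]
  have hodd : ∀ j, ∀ i ∈ O, ¬ 2 ∣ z j i := fun j i hi => by
    have := hp j i
    rcases hc i hi with e | e <;> rw [e] at this <;> omega
  have hz15 : ∀ j i, z j i ^ 2 ≤ 15 := fun j i => by
    have := Finset.single_le_sum (fun l _ => sq_nonneg (z l i)) (Finset.mem_univ j)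
    nlinarith [hb i, sq_nonneg (c i)]
  -- each vector is of one of two types
  have htype : ∀ j, (z j e₁ = 0 ∧ z j e₂ = 0) ∨
      ((z j e₁ = 2 ∨ z j e₁ = -2) ∧ (z j e₂ = 2 ∨ z j e₂ = -2) ∧
        ∀ i ∈ O, z j i = 1 ∨ z j i = -1) := by
    intro j
    have h16 : z j e₁ * z j e₁ + (z j e₂ * z j e₂ + ∑ i ∈ O, z j i * z j i) = 16 := by
      rw [← Finset.sum_insert (f := fun i => z j i * z j i) h2O,
        ← Finset.sum_insert (f := fun i => z j i * z j i) (by simp [hne, h1O]), ← hu, hzz, if_pos rfl]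
    have h8 := sum_sq_mod_eight O (z j) (hodd j)
    rw [hO] at h8
    have hge : (8 : ℤ) ≤ ∑ i ∈ O, z j i * z j i := by
      have := Finset.sum_le_sum (s := O) (f := fun _ => (1 : ℤ)) (g := fun i => z j i * z j i)
        fun i hi => by nlinarith [one_le_sq (hodd j i hi)]
      simpa [hO] using this
    have r1 := range_of_sq_le (hz15 j e₁)
    have r2 := range_of_sq_le (hz15 j e₂)
    have p1 := hp j e₁
    have p2 := hp j e₂
    have v1 : z j e₁ = -2 ∨ z j e₁ = 0 ∨ z j e₁ = 2 := by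
      rcases hc1 with e | e <;> rw [e] at p1 <;> omega
    have v2 : z j e₂ = -2 ∨ z j e₂ = 0 ∨ z j e₂ = 2 := by
      rcases hc2 with e | e <;> rw [e] at p2 <;> omega
    push_cast at h8
    rcases v1 with a1 | a1 | a1 <;> rcases v2 with a2 | a2 | a2 <;> rw [a1, a2] at h16 <;>
      first
      | exact Or.inl ⟨a1, a2⟩
      | (exfalso; omega)
      | exact Or.inr ⟨by omega, by omega, fun i hi =>
          signs_of_sum_sq_le O (z j) (hodd j) (by rw [hO]; push_cast; omega) hi⟩
  -- exactly one of them does not vanish at the even positions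
  obtain ⟨a, b, b', ha, ha', hbT, hbT'⟩ : ∃ a b b' : Fin 3, (a ≠ b ∧ a ≠ b' ∧ b ≠ b') ∧
      (z a e₁ = 2 ∨ z a e₁ = -2) ∧ (z b e₁ = 0) ∧ (z b' e₁ = 0) := by
    have hm1 := hm e₁
    have hb1 := hb e₁
    rw [Fin.sum_univ_three] at hb1
    have hv : ∀ j, z j e₁ = 2 ∨ z j e₁ = -2 ∨ z j e₁ = 0 := fun j => by
      rcases htype j with ⟨e, -⟩ | ⟨e | e, -⟩ <;> simp [e]
    rcases hv 0 with e0 | e0 | e0 <;> rcases hv 1 with e1 | e1 | e1 <;>
      rcases hv 2 with e2 | e2 | e2 <;> rcases hc1 with e | e <;> rw [e0, e1, e2, e] at hm1 hb1 <;>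
      first
      | omega
      | (norm_num at hb1; done)
      | exact ⟨0, 1, 2, by decide, by simp [e0], e1, e2⟩
      | exact ⟨1, 0, 2, by decide, by simp [e1], e0, e2⟩
      | exact ⟨2, 0, 1, by decide, by simp [e2], e0, e1⟩
  obtain ⟨hab, hab', hbb⟩ := ha
  have hB : ∀ j, z j e₁ = 0 → z j e₂ = 0 := fun j h0 => by
    rcases htype j with ⟨-, e⟩ | ⟨e, -⟩
    · exact e
    · omega
  obtain ⟨-, hA2, hAO⟩ : (z a e₁ = 2 ∨ z a e₁ = -2) ∧ (z a e₂ = 2 ∨ z a e₂ = -2) ∧
      ∀ i ∈ O, z a i = 1 ∨ z a i = -1 := by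
    rcases htype a with ⟨e, -⟩ | h
    · omega
    · exact h
  have huniv3 : (Finset.univ : Finset (Fin 3)) = {a, b, b'} := by
    symm
    apply Finset.eq_univ_of_card
    rw [Finset.card_insert_of_notMem (by simp [hab, hab']), Finset.card_pair hbb, Fintype.card_fin]
  have h3sum : ∀ f : Fin 3 → ℤ, ∑ j, f j = f a + f b + f b' := fun f => by
    rw [huniv3, Finset.sum_insert (by simp [hab, hab']), Finset.sum_pair hbb, add_assoc]
  have hperm : ∀ i, z 0 i + z 1 i + z 2 i = z a i + z b i + z b' i := fun i =>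
    (Fin.sum_univ_three fun j => z j i).symm.trans (h3sum fun j => z j i)
  have hsum3 : ∀ i, c i ^ 2 + (z a i ^ 2 + z b i ^ 2 + z b' i ^ 2) ≤ 15 := fun i => by
    rw [← h3sum fun j => z j i ^ 2]
    exact hb i
  have hzc : ∀ j, ∑ i, z j i * c i = 0 := fun j => by simpa only [mul_comm] using hcz j
  obtain ⟨σ, hσ, hall, h1, h2⟩ := pick_shape O e₁ e₂ hO hne huniv h1O h2O hc hc1 hc2 hAO ha'
    hA2 ⟨hbT, hbT'⟩ ⟨hB b hbT, hB b' hbT'⟩ (fun i hi => ⟨hodd b i hi, hodd b' i hi, by
      have := hsum3 i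
      rcases hc i hi with e | e <;> rcases hAO i hi with f | f <;> rw [e, f] at this <;> linarith⟩)
    (fun i _ => by rw [← hperm]; exact hm i) (hzc a) (hzc b) (hzc b') (by simp [hzz, hab])
    (by simp [hzz, hab']) (by simp [hzz]) (by simp [hzz]) (by simp [hzz, hbb])
  exact ⟨z a, σ, hσ, ⟨a, rfl⟩, hall, h1, h2⟩

/-- Eight characters would need a complete orthogonal system with impossible degrees. -/
theorem Cols.card_ne_eight (h : Cols i0 c z w X) : Fintype.card ι ≠ 8 := by
  intro h8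
  let e : Fin 8 ≃ ι := (Fintype.equivFinOfCardEq h8).symm
  set T := ∑ l, X l * X l with hT
  have hT0 : (0 : ℤ) < T :=
    Finset.sum_pos (fun l _ => mul_pos (h.xpos l) (h.xpos l)) ⟨i0, mem_univ _⟩
  let R : Fin 8 → ι → ℤ := Fin.cons X (fam c z w)
  let wt : Fin 8 → ℤ := Fin.cons T (fun _ => 16)
  have horth : ∀ u v, ∑ i, R u i * R v i = if u = v then wt u else 0 := by
    intro u v
    refine Fin.cases ?_ (fun u => ?_) u <;> refine Fin.cases ?_ (fun v => ?_) v
    · simp [R, wt, hT]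
    · simp [R, h.xorth, (Fin.succ_ne_zero v).symm]
    · have := h.xorth u
      rw [Finset.sum_congr rfl fun i _ => mul_comm (X i) _] at this
      simp [R, this, Fin.succ_ne_zero u]
    · simp [R, wt, h.orth, Fin.succ_inj]
  let A : Matrix (Fin 8) (Fin 8) ℚ := .of fun u i => (R u (e i) : ℚ)
  let B : Matrix (Fin 8) (Fin 8) ℚ := .of fun i u => (R u (e i) : ℚ) / (wt u : ℚ)
  have hwt : ∀ u, (wt u : ℚ) ≠ 0 := by
    intro u
    refine Fin.cases ?_ (fun u => ?_) u
    · simpa [wt] using hT0.ne'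
    · simp [wt]
  have hAB : A * B = 1 := by
    ext u v
    rw [Matrix.mul_apply, Matrix.one_apply]
    simp only [A, B, Matrix.of_apply, mul_div_assoc', div_eq_mul_inv, ← mul_assoc, ← Int.cast_mul]
    rw [← Finset.sum_mul, ← Int.cast_sum, e.sum_comp fun i => R u i * R v i, horth]
    split_ifs with huv
    · subst huv; exact mul_inv_cancel₀ (hwt u)
    · simp
  have hBA : B * A = 1 := mul_eq_one_comm.mp hAB
  have hd := congrFun (congrFun hBA (e.symm i0)) (e.symm i0)
  rw [Matrix.mul_apply, Matrix.one_apply_eq, Fin.sum_univ_succ] at hd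
  have hFsq : ∀ u, fam c z w u i0 * fam c z w u i0 = 1 := by
    intro u
    fin_cases u <;> simp [fam, h.cone, h.zone, h.wone]
  simp only [A, B, Matrix.of_apply, Equiv.apply_symm_apply, R, wt, Fin.cons_zero, Fin.cons_succ,
    div_mul_eq_mul_div, ← Int.cast_mul, hFsq, h.xone, mul_one] at hd
  have hT' : (T : ℚ) ≠ 0 := by exact_mod_cast hT0.ne'
  simp at hd
  field_simp at hd
  have : (9 : ℤ) * T = 16 := by
    have : ((9 : ℤ) * T : ℚ) = (16 : ℚ) := by push_cast; linarith
    exact_mod_cast this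
  omega

/-- With at least eight characters there are sixteen. -/
theorem Cols.card_eq (h : Cols i0 c z w X) (hk : 8 ≤ Fintype.card ι) : Fintype.card ι = 16 := by
  classical
  have hc3 : ∀ i, c i = -3 ∨ c i = -2 ∨ c i = -1 ∨ c i = 1 ∨ c i = 2 ∨ c i = 3 := fun i => by
    have := range_of_sq_le (h.abs_le i).2.2
    have := h.cne i
    omega
  have hge : ∀ i, 0 ≤ c i * c i - 1 := fun i => by
    rcases hc3 i with e | e | e | e | e | e <;> simp [e]
  have hex : ∑ i, (c i * c i - 1) = 16 - (Fintype.card ι : ℤ) := by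
    rw [Finset.sum_sub_distrib, h.cc]; simp
  -- the exceptional positions
  set E := Finset.univ.filter fun i => c i * c i ≠ 1 with hE
  have hE3 : ∀ i ∈ E, 3 ≤ c i * c i - 1 := fun i hi => by
    have := (Finset.mem_filter.mp hi).2
    rcases hc3 i with e | e | e | e | e | e <;> simp [e] at this ⊢
  have hEsum : ∑ i ∈ E, (c i * c i - 1) = 16 - (Fintype.card ι : ℤ) := by
    rw [← hex]
    refine Finset.sum_subset (Finset.subset_univ _) fun i _ hi => ?_
    simp only [hE, Finset.mem_filter, Finset.mem_univ, true_and, not_not] at hi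
    rw [hi, sub_self]
  have hEcard : E.card ≤ 2 := by
    have := Finset.card_nsmul_le_sum E (fun i => c i * c i - 1) 3 hE3
    rw [hEsum, nsmul_eq_mul] at this
    omega
  set O := Finset.univ \ E with hOdef
  have hOc : ∀ i ∈ O, c i = 1 ∨ c i = -1 := fun i hi => by
    simp only [hOdef, hE, Finset.mem_sdiff, Finset.mem_filter, Finset.mem_univ, true_and,
      not_not] at hi
    rcases hc3 i with e | e | e | e | e | e <;> simp [e] at hi ⊢
  have hOcard : (O.card : ℤ) = Fintype.card ι - E.card := by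
    rw [hOdef, Finset.card_sdiff_of_subset (Finset.subset_univ E), Finset.card_univ,
      Nat.cast_sub (Finset.card_le_univ E)]
  have hne8 := h.card_ne_eight
  obtain hE0 | hE1 | hE2 : E.card = 0 ∨ E.card = 1 ∨ E.card = 2 := by omega
  · rw [Finset.card_eq_zero.mp hE0, Finset.sum_empty] at hEsum
    omega
  · obtain ⟨e, he⟩ := Finset.card_eq_one.mp hE1
    rw [he, Finset.sum_singleton] at hEsum
    have h3 := hE3 e (by simp [he])
    have hce : c e = 2 ∨ c e = -2 := by
      rcases hc3 e with f | f | f | f | f | f <;> simp [f] at hEsum h3 ⊢ <;> omega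
    have hk13 : Fintype.card ι = 13 := by
      rcases hce with f | f <;> rw [f] at hEsum <;> omega
    exfalso
    have hz : ∀ f : ι → ℤ, (∀ i, 2 ∣ f i - c i) → ∑ i, f i * f i = 16 → f e ^ 2 ≤ 15 →
        f e ^ 2 = 4 := by
      intro f hf h16 hle
      have hodd : ∀ i ∈ O, ¬ 2 ∣ f i := fun i hi => by
        have := hf i
        rcases hOc i hi with g | g <;> rw [g] at this <;> omega
      have h8 := sum_sq_mod_eight O f hodd
      rw [← Finset.sum_sdiff (Finset.subset_univ E), ← hOdef, he, Finset.sum_singleton] at h16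
      have hr := range_of_sq_le hle
      have hfe := hf e
      have : f e = -2 ∨ f e = 0 ∨ f e = 2 := by
        rcases hce with g | g <;> rw [g] at hfe <;> omega
      rcases this with g | g | g <;> rw [g] at h16 ⊢ <;> omega
    have hb := h.bessel e
    simp only [hz _ (h.pz _) (by simp [h.zz]) ((h.abs_le e).1 _),
      hz _ (h.pw _) (by simp [h.ww]) ((h.abs_le e).2.1 _), Finset.sum_const, Finset.card_univ,
      Fintype.card_fin] at hb
    rcases hce with g | g <;> rw [g] at hb <;> norm_num at hb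
  · obtain ⟨e₁, e₂, hne, he⟩ := Finset.card_eq_two.mp hE2
    rw [he, Finset.sum_pair hne] at hEsum
    have h31 := hE3 e₁ (by simp [he])
    have h32 := hE3 e₂ (by simp [he])
    have hc1 : c e₁ = 2 ∨ c e₁ = -2 := by
      rcases hc3 e₁ with f | f | f | f | f | f <;> simp [f] at hEsum h31 ⊢ <;> omega
    have hc2 : c e₂ = 2 ∨ c e₂ = -2 := by
      rcases hc3 e₂ with f | f | f | f | f | f <;> simp [f] at hEsum h32 ⊢ <;> omega
    have hk10 : Fintype.card ι = 10 := by
      rcases hc1 with f | f <;> rcases hc2 with g | g <;> rw [f, g] at hEsum <;> omega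
    have hO8 : O.card = 8 := by omega
    exfalso
    have huniv : ∀ i, i ∈ O ∨ i = e₁ ∨ i = e₂ := fun i => by
      by_cases hi : i ∈ E
      · rw [he] at hi; simpa using Or.inr (by simpa using hi : i = e₁ ∨ i = e₂)
      · exact Or.inl (Finset.mem_sdiff.mpr ⟨Finset.mem_univ _, hi⟩)
    have h1O : e₁ ∉ O := by simp [hOdef, he]
    have h2O : e₂ ∉ O := by simp [hOdef, he]
    have hsq : ∀ i, 0 ≤ ∑ j, z j i ^ 2 ∧ 0 ≤ ∑ j, w j i ^ 2 := fun i =>
      ⟨Finset.sum_nonneg fun _ _ => sq_nonneg _, Finset.sum_nonneg fun _ _ => sq_nonneg _⟩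
    obtain ⟨a, σ, hσ, ⟨j, rfl⟩, ha, a1, a2⟩ := triple_shape O e₁ e₂ hO8 hne huniv h1O h2O hOc hc1
      hc2 h.zz h.cz h.pz h.mz fun i => by linarith [h.bessel i, (hsq i).2]
    obtain ⟨b, τ, hτ, ⟨l, rfl⟩, hb, b1, b2⟩ := triple_shape O e₁ e₂ hO8 hne huniv h1O h2O hOc hc1
      hc2 h.ww h.cw h.pw h.mw fun i => by linarith [h.bessel i, (hsq i).1]
    have h0 := h.zw j l
    rw [← Finset.sum_sdiff (Finset.subset_univ E), ← hOdef, he, Finset.sum_pair hne,
      Finset.sum_congr rfl (g := fun _ => σ * τ) fun i hi => ?_, Finset.sum_const, hO8,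
      nsmul_eq_mul] at h0
    · have p1 : z j e₁ * w l e₁ = 4 * σ * τ := by
        have hq : c e₁ * c e₁ = 4 := by rcases hc1 with f | f <;> simp [f]
        have h4 : 4 * (z j e₁ * w l e₁) = 16 * (σ * τ) := by
          linear_combination (w l e₁ * c e₁) * a1 + (-4 * σ) * b1 - z j e₁ * w l e₁ * hq
        linarith
      have p2 : z j e₂ * w l e₂ = 4 * σ * τ := by
        have hq : c e₂ * c e₂ = 4 := by rcases hc2 with f | f <;> simp [f]
        have h4 : 4 * (z j e₂ * w l e₂) = 16 * (σ * τ) := by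
          linear_combination (w l e₂ * c e₂) * a2 + (-4 * σ) * b2 - z j e₂ * w l e₂ * hq
        linarith
      rcases hσ with rfl | rfl <;> rcases hτ with rfl | rfl <;> norm_num at h0 p1 p2 <;> linarith
    · rw [ha i hi, hb i hi]
      rcases hOc i hi with f | f <;> rw [f] <;> ring

end CfsgLib.Char.InertiaNine
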