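import Cfsg.Agent.Lib.Fusion.Abelian
import Mathlib.GroupTheory.PGroup
import Mathlib.GroupTheory.GroupAction.Quotient

/-!
# Abelian inertial quotient of order nine on an elementary abelian group of order sixteen
-/

set_option autoImplicit false
set_option linter.unusedSectionVars false

open Subgroup
open scoped commutatorElement

namespace CfsgLib.Char.InertiaNine

variable {A : Type*} [Group A]

/-- The fixed subgroup of an automorphism. -/
def fixSub (e : MulAut A) : Subgroup A where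
  carrier := {x | e x = x}
  one_mem' := map_one e
  mul_mem' {x y} hx hy := by simp only [Set.mem_setOf_eq] at *; rw [map_mul, hx, hy]
  inv_mem' {x} hx := by simp only [Set.mem_setOf_eq] at *; rw [map_inv, hx]

theorem mem_fixSub {e : MulAut A} {x : A} : x ∈ fixSub e ↔ e x = x := Iff.rfl

theorem fixSub_le_pow (e : MulAut A) (i : ℕ) : fixSub e ≤ fixSub (e ^ i) := by
  intro x hx
  induction i with
  | zero => simp [mem_fixSub]
  | succ i ih =>
    rw [mem_fixSub] at hx ih ⊢
    rw [pow_succ, MulAut.mul_apply, hx, ih]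

variable [Finite A]

theorem dvd_sixteen_cases {f : ℕ} (h : f ∣ 16) (h3 : f ≡ 16 [MOD 3]) : f = 1 ∨ f = 4 ∨ f = 16 := by
  have hle := Nat.le_of_dvd (by norm_num) h
  unfold Nat.ModEq at h3
  interval_cases f <;> omega

/-- Fixed points of a `3`-group of automorphisms. -/
theorem card_fix_cases (hA : Nat.card A = 16) (R : Subgroup (MulAut A)) (hR : IsPGroup 3 R)
    (F : Subgroup A) (hF : ∀ x, x ∈ F ↔ ∀ e ∈ R, e x = x) :
    Nat.card F = 1 ∨ Nat.card F = 4 ∨ Nat.card F = 16 := by
  haveI := Fact.mk (Nat.prime_three)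
  letI : MulAction R A := MulAction.compHom A R.subtype
  refine dvd_sixteen_cases (hA ▸ F.card_subgroup_dvd_card) ?_
  have h := hR.card_modEq_card_fixedPoints A
  rw [hA] at h
  have hfp : MulAction.fixedPoints R A = (F : Set A) := by
    ext x
    rw [MulAction.mem_fixedPoints, SetLike.mem_coe, hF]
    exact ⟨fun h e he => h ⟨e, he⟩, fun h e => h e e.2⟩
  rw [hfp] at h
  exact h.symm

theorem card_fixSub_cases (hA : Nat.card A = 16) {R : Subgroup (MulAut A)} (hR : IsPGroup 3 R)
    {e : MulAut A} (he : e ∈ R) (hne : e ≠ 1) : Nat.card (fixSub e) = 1 ∨ Nat.card (fixSub e) = 4 := by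
  have hF : ∀ x, x ∈ fixSub e ↔ ∀ u ∈ zpowers e, u x = x := fun x =>
    ⟨fun hx u hu => by
      obtain ⟨i, rfl⟩ := (mem_powers_iff_mem_zpowers (x := e) (y := u)).mpr hu
      exact fixSub_le_pow e i hx, fun h => h e (mem_zpowers e)⟩
  rcases card_fix_cases hA (zpowers e) (hR.to_le (zpowers_le.mpr he)) (fixSub e) hF with h | h | h
  · exact Or.inl h
  · exact Or.inr h
  · exfalso
    refine hne (MulEquiv.ext fun x => ?_)
    have : x ∈ fixSub e := (Subgroup.eq_top_of_card_eq _ (h.trans hA.symm)) ▸ Subgroup.mem_top x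
    exact this

/-- Two automorphisms with complementary fixed subgroups of order four. -/
theorem exists_pair (hA : Nat.card A = 16) (R : Subgroup (MulAut A)) (hR : Nat.card R = 9) :
    (∀ e ∈ R, ∀ f ∈ R, Commute e f) ∧ ∃ α ∈ R, ∃ β ∈ R, α ≠ 1 ∧ β ≠ 1 ∧
      Nat.card (fixSub α) = 4 ∧ Nat.card (fixSub β) = 4 ∧ fixSub α ⊓ fixSub β = ⊥ ∧
        ∀ e ∈ R, fixSub α ≤ fixSub e → fixSub β ≤ fixSub e → e = 1 := by
  classical
  haveI := Fact.mk (Nat.prime_three)
  haveI : Finite (MulAut A) := Finite.of_injective (fun e => (e : A → A)) DFunLike.coe_injective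
  have hR3 : IsPGroup 3 R := IsPGroup.of_card (n := 2) (by rw [hR]; norm_num)
  have hcomm : ∀ e ∈ R, ∀ f ∈ R, Commute e f := fun e he f hf =>
    congrArg Subtype.val (IsPGroup.commutative_of_card_eq_prime_sq (p := 3) (G := R) (by rw [hR]; norm_num) ⟨e, he⟩ ⟨f, hf⟩)
  refine ⟨hcomm, ?_⟩
  letI : MulAction R A := MulAction.compHom A R.subtype
  letI := Fintype.ofFinite A
  letI := Fintype.ofFinite R
  letI := Fintype.ofFinite (Quotient (MulAction.orbitRel R A))
  have hburn := MulAction.sum_card_fixedBy_eq_card_orbits_mul_card_group R A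
  rw [← Nat.card_eq_fintype_card (α := R), hR] at hburn
  have hfix : ∀ e : R, Fintype.card (MulAction.fixedBy A e) = Nat.card (fixSub (e : MulAut A)) := fun e => by
    rw [← Nat.card_eq_fintype_card]
    exact Nat.card_congr (Equiv.subtypeEquivRight fun x => Iff.rfl)
  set S := (Finset.univ : Finset R).filter fun e : R => Nat.card (fixSub ((e : R) : MulAut A)) = 4 with hS
  have h1 : Nat.card (fixSub ((1 : R) : MulAut A)) = 16 := by
    rw [show fixSub ((1 : R) : MulAut A) = ⊤ from eq_top_iff.mpr fun x _ => by simp [mem_fixSub],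
      Nat.card_congr Subgroup.topEquiv.toEquiv, hA]
  have hS1 : (1 : R) ∉ S := fun h => by
    have := (Finset.mem_filter.mp h).2
    omega
  have hsum : 16 + 8 + 3 * S.card ≡ 0 [MOD 9] := by
    have hval : ∀ e : R, Nat.card (fixSub (e : MulAut A)) =
        1 + (if e = 1 then 15 else 0) + (if e ∈ S then 3 else 0) := by
      intro e
      by_cases he : e = 1
      · subst he; rw [h1, if_pos rfl, if_neg hS1]
      · rcases card_fixSub_cases hA hR3 e.2 (fun h => he (Subtype.ext h)) with h | h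
        · rw [if_neg he, if_neg (fun hm => by have := (Finset.mem_filter.mp hm).2; omega), h]
        · rw [if_neg he, if_pos (show e ∈ S from hS ▸ Finset.mem_filter.mpr ⟨Finset.mem_univ _, h⟩), h]
    rw [Finset.sum_congr rfl fun e _ => (hfix e).trans (hval e), Finset.sum_add_distrib,
      Finset.sum_add_distrib, Finset.sum_const, Finset.card_univ, Finset.sum_ite_eq',
      if_pos (Finset.mem_univ _), Finset.sum_ite_mem, Finset.univ_inter, Finset.sum_const,
      ← Nat.card_eq_fintype_card (α := R), hR, smul_eq_mul, smul_eq_mul, mul_one] at hburn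
    unfold Nat.ModEq
    omega
  have hS8 : S.card ≤ 8 := by
    have : S ⊆ (Finset.univ : Finset R).erase 1 := fun e he =>
      Finset.mem_erase.mpr ⟨fun h => hS1 (h ▸ he), Finset.mem_univ _⟩
    have := Finset.card_le_card this
    rw [Finset.card_erase_of_mem (Finset.mem_univ _), Finset.card_univ,
      ← Nat.card_eq_fintype_card, hR] at this
    exact this
  have hm : S.card % 3 = 1 := by unfold Nat.ModEq at hsum; omega
  -- inversion acts on `S` without fixed points
  have hinv : ∀ e : R, fixSub ((e⁻¹ : R) : MulAut A) = fixSub (e : MulAut A) := fun e => by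
    ext x
    rw [mem_fixSub, mem_fixSub, Subgroup.coe_inv]
    exact ⟨fun h => by conv_lhs => rw [← h]; exact MulAut.apply_inv_self A (e : MulAut A) x,
      fun h => by conv_lhs => rw [← h]; exact MulAut.inv_apply_self A (e : MulAut A) x⟩
  have hself : ∀ e : R, e⁻¹ = e → e = 1 := fun e he => by
    have h2 : e ^ 2 = 1 := by rw [sq]; nth_rw 1 [← he]; exact inv_mul_cancel e
    have h9 : orderOf e ∣ 9 := hR ▸ orderOf_dvd_natCard e
    have h2' := orderOf_dvd_of_pow_eq_one h2
    exact orderOf_eq_one_iff.mp (Nat.dvd_one.mp (Nat.dvd_gcd h9 h2'))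
  obtain ⟨α, hα⟩ := Finset.card_pos.mp (show 0 < S.card by omega)
  obtain ⟨β, hβ, hβne⟩ : ∃ β ∈ S, β ≠ α ∧ β ≠ α⁻¹ := by
    have hne1 : S.card ≠ 1 := fun h => by
      obtain ⟨u, hu⟩ := Finset.card_eq_one.mp h
      have hu1 : u ∈ S := by simp [hu]
      have : u⁻¹ ∈ S := by
        simp only [hS, Finset.mem_filter, Finset.mem_univ, true_and] at hu1 ⊢
        rw [hinv]; exact hu1
      rw [hu, Finset.mem_singleton] at this
      exact hS1 (hself u this ▸ hu1)
    obtain ⟨β, hβ⟩ := Finset.card_pos.mp (show 0 < ((S.erase α).erase α⁻¹).card by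
      have h1 := Finset.pred_card_le_card_erase (s := S) (a := α)
      have h2 := Finset.pred_card_le_card_erase (s := S.erase α) (a := α⁻¹)
      omega)
    simp only [Finset.mem_erase] at hβ
    exact ⟨β, hβ.2.2, hβ.2.1, hβ.1⟩
  have hα4 := (Finset.mem_filter.mp hα).2
  have hβ4 := (Finset.mem_filter.mp hβ).2
  have hα1 : (α : MulAut A) ≠ 1 := fun h => hS1 ((Subtype.ext h : α = 1) ▸ hα)
  have hβ1 : (β : MulAut A) ≠ 1 := fun h => hS1 ((Subtype.ext h : β = 1) ▸ hβ)
  -- the subgroup fixing both fixed subgroups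
  let D : Subgroup R := closure ({α, β} : Set R)
  have hDtop : D = ⊤ := by
    rcases (Nat.dvd_prime_pow Nat.prime_three).mp
      (show Nat.card D ∣ 3 ^ 2 from (show (3 : ℕ) ^ 2 = 9 by norm_num) ▸ hR ▸ D.card_subgroup_dvd_card)
      with ⟨i, hi, hDi⟩
    interval_cases i
    · have hbot : D = ⊥ := Subgroup.card_eq_one.mp (by rw [hDi, pow_zero])
      have hαD : α ∈ D := subset_closure (Set.mem_insert α {β})
      rw [hbot, Subgroup.mem_bot] at hαD
      exact absurd (congrArg Subtype.val hαD) hα1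
    · exfalso
      have hαD : α ∈ D := subset_closure (Set.mem_insert α {β})
      have hβD : β ∈ D := subset_closure (Set.mem_insert_of_mem _ rfl)
      have hgen := mem_zpowers_of_prime_card (by simpa using hDi)
        (show (⟨α, hαD⟩ : D) ≠ 1 from fun h => hα1 (congrArg (fun d : D => ((d : R) : MulAut A)) h))
        (g' := (⟨β, hβD⟩ : D))
      obtain ⟨k, hk⟩ := mem_zpowers_iff.mp hgen
      have hk' : α ^ k = β := congrArg Subtype.val hk
      have hα3 : α ^ (3 : ℤ) = 1 := by
        have := congrArg Subtype.val (pow_card_eq_one' (x := (⟨α, hαD⟩ : D)))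
        rw [hDi, pow_one] at this
        exact (zpow_natCast α 3).trans this
      rw [← Int.emod_add_mul_ediv k 3, zpow_add, zpow_mul, hα3, one_zpow, mul_one] at hk'
      have := Int.emod_nonneg k (show (3 : ℤ) ≠ 0 by norm_num)
      have := Int.emod_lt_of_pos k (show (0 : ℤ) < 3 by norm_num)
      rcases (show k % 3 = 0 ∨ k % 3 = 1 ∨ k % 3 = 2 by omega) with h | h | h <;> rw [h] at hk'
      · exact hβ1 (by rw [← hk', zpow_zero]; rfl)
      · exact hβne.1 (by rw [← hk', zpow_one])
      · refine hβne.2 (by rw [← hk', eq_inv_iff_mul_eq_one, ← zpow_add_one]; exact hα3)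
    · exact Subgroup.eq_top_of_card_eq D (by rw [hDi, hR]; norm_num)
  have hboth : ∀ x, (α : MulAut A) x = x → (β : MulAut A) x = x → ∀ e ∈ R, e x = x := by
    intro x hx hx' e he
    have h : (⟨e, he⟩ : R) ∈ D := hDtop ▸ Subgroup.mem_top _
    exact (closure_le (MulAction.stabilizer R x)).mpr (by
      rintro u (rfl | hu)
      · exact hx
      · rw [Set.mem_singleton_iff.mp hu]; exact hx') h
  have hinf : fixSub (α : MulAut A) ⊓ fixSub (β : MulAut A) = ⊥ := by
    set F := fixSub (α : MulAut A) ⊓ fixSub (β : MulAut A) with hF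
    rcases card_fix_cases hA R hR3 F fun x => ⟨fun hx e he => hboth x hx.1 hx.2 e he,
        fun h => ⟨h α α.2, h β β.2⟩⟩ with h | h | h
    · exact Subgroup.card_eq_one.mp h
    · exfalso
      have hall : (Finset.univ : Finset R).erase 1 ⊆ S := fun e he => by
        have hne : (e : MulAut A) ≠ 1 := fun h => (Finset.mem_erase.mp he).1 (Subtype.ext h)
        refine Finset.mem_filter.mpr ⟨Finset.mem_univ _, ?_⟩
        have hle : F ≤ fixSub (e : MulAut A) := fun x hx => hboth x hx.1 hx.2 e e.2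
        have hdvd := Subgroup.card_dvd_of_le hle
        rcases card_fixSub_cases hA hR3 e.2 hne with h' | h'
        · rw [h, h'] at hdvd; norm_num at hdvd
        · exact h'
      have := Finset.card_le_card hall
      rw [Finset.card_erase_of_mem (Finset.mem_univ _), Finset.card_univ,
        ← Nat.card_eq_fintype_card, hR] at this
      omega
    · have h4 := Subgroup.card_dvd_of_le (inf_le_left : F ≤ fixSub (α : MulAut A))
      rw [h, hα4] at h4
      norm_num at h4
  refine ⟨α, α.2, β, β.2, hα1, hβ1, hα4, hβ4, hinf, fun e _ ha hb => ?_⟩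
  have hprod : Nat.card (↥(fixSub (α : MulAut A)) × ↥(fixSub (β : MulAut A))) = Nat.card A := by
    rw [Nat.card_prod, hα4, hβ4, hA]
  have hbij := (Nat.bijective_iff_injective_and_card _).mpr
    ⟨Subgroup.mul_injective_of_disjoint (disjoint_iff.mpr hinf), hprod⟩
  refine MulEquiv.ext fun x => ?_
  obtain ⟨⟨u, v⟩, rfl⟩ := hbij.2 x
  show e (u * v) = _
  rw [map_mul, ha u.2, hb v.2]
  rfl

variable {G : Type*} [Group G]

/-- The decomposition of the Sylow subgroup under the inertial quotient. -/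
structure Frame (P : Subgroup G) (U V : Subgroup G) (g h : G) : Prop where
  leU : U ≤ P
  leV : V ≤ P
  cardU : Nat.card U = 4
  cardV : Nat.card V = 4
  disj : U ⊓ V = ⊥
  cover : ∀ t ∈ P, ∃ u ∈ U, ∃ v ∈ V, t = u * v
  memg : g ∈ normalizer (P : Set G)
  memh : h ∈ normalizer (P : Set G)
  gfix : ∀ u ∈ U, g * u * g⁻¹ = u
  hfix : ∀ v ∈ V, h * v * h⁻¹ = v
  gmove : ∀ v ∈ V, g * v * g⁻¹ = v → v = 1
  hmove : ∀ u ∈ U, h * u * h⁻¹ = u → u = 1
  invU : ∀ n ∈ normalizer (P : Set G), ∀ u ∈ U, n * u * n⁻¹ ∈ U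
  invV : ∀ n ∈ normalizer (P : Set G), ∀ v ∈ V, n * v * n⁻¹ ∈ V
  freeU : ∀ n ∈ normalizer (P : Set G), ∀ u ∈ U, u ≠ 1 → n * u * n⁻¹ = u → ∀ x ∈ U, n * x * n⁻¹ = x
  freeV : ∀ n ∈ normalizer (P : Set G), ∀ v ∈ V, v ≠ 1 → n * v * n⁻¹ = v → ∀ x ∈ V, n * x * n⁻¹ = x
  comm : ∀ s ∈ P, ∀ t ∈ P, s * t = t * s

theorem Frame.swap {P U V : Subgroup G} {g h : G} (F : Frame P U V g h) : Frame P V U h g where
  leU := F.leV
  leV := F.leU
  cardU := F.cardV
  cardV := F.cardU
  disj := by rw [inf_comm, F.disj]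
  cover t ht := by
    obtain ⟨u, hu, v, hv, rfl⟩ := F.cover t ht
    exact ⟨v, hv, u, hu, F.comm u (F.leU hu) v (F.leV hv)⟩
  memg := F.memh
  memh := F.memg
  gfix := F.hfix
  hfix := F.gfix
  gmove := F.hmove
  hmove := F.gmove
  invU := F.invV
  invV := F.invU
  freeU := F.freeV
  freeV := F.freeU
  comm := F.comm

theorem exists_frame [Finite G] {P : Subgroup G} (hcard : Nat.card P = 16)
    (hcomm : ∀ s ∈ P, ∀ t ∈ P, s * t = t * s)
    (he : (centralizer (P : Set G)).relIndex (normalizer (P : Set G)) = 9) :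
    ∃ U V : Subgroup G, ∃ g h : G, Frame P U V g h := by
  classical
  set φ := P.normalizerMonoidHom with hφ
  have hR : Nat.card φ.range = 9 := by
    rw [← Subgroup.index_ker, hφ, Subgroup.normalizerMonoidHom_ker]
    exact he
  obtain ⟨habR, α, hα, β, hβ, hα1, hβ1, hα4, hβ4, hinf, hfree⟩ := exists_pair hcard φ.range hR
  obtain ⟨g, rfl⟩ := hα
  obtain ⟨h, rfl⟩ := hβ
  have happ : ∀ (n : normalizer (P : Set G)) (x : P), ((φ n x : P) : G) = (n : G) * x * (n : G)⁻¹ :=
    fun n x => rfl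
  have hinv : ∀ (n m : normalizer (P : Set G)) (x : P), x ∈ fixSub (φ m) → φ n x ∈ fixSub (φ m) := by
    intro n m x hx
    rw [mem_fixSub] at hx ⊢
    rw [← MulAut.mul_apply, (habR _ ⟨m, rfl⟩ _ ⟨n, rfl⟩).eq, MulAut.mul_apply, hx]
  have hfix : ∀ (n m : normalizer (P : Set G)) (x : P), x ∈ fixSub (φ m) →
      (x : G) ∈ (fixSub (φ m)).map P.subtype := fun _ _ x hx => ⟨x, hx, rfl⟩
  -- an automorphism fixing a nontrivial point of a four-group fixes it
  have hfour : ∀ (n m : normalizer (P : Set G)), Nat.card (fixSub (φ m)) = 4 →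
      ∀ x ∈ fixSub (φ m), x ≠ 1 → φ n x = x → fixSub (φ m) ≤ fixSub (φ n) := by
    intro n m h4 x hx hx1 hnx
    haveI := Fact.mk (Nat.prime_three)
    set L := fixSub (φ m) ⊓ fixSub (φ n) with hL
    have hR3 : IsPGroup 3 φ.range := IsPGroup.of_card (n := 2) (by rw [hR]; norm_num)
    by_cases hn1 : φ n = 1
    · intro y _; simp [mem_fixSub, hn1]
    have hLfix : ∀ y, y ∈ L ↔ ∀ e ∈ closure {φ m, φ n}, e y = y := fun y =>
      ⟨fun hy e he => (closure_le (MulAction.stabilizer (MulAut P) y)).mpr (by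
        rintro u (rfl | rfl)
        · exact hy.1
        · exact hy.2) he, fun h => ⟨h _ (subset_closure (Set.mem_insert _ _)),
          h _ (subset_closure (Set.mem_insert_of_mem _ rfl))⟩⟩
    rcases card_fix_cases hcard (closure {φ m, φ n}) (hR3.to_le ((closure_le _).mpr (by
        rintro e (rfl | rfl) <;> exact ⟨_, rfl⟩))) L hLfix with h1 | h4' | h16
    · have : x ∈ L := ⟨hx, hnx⟩
      rw [Subgroup.card_eq_one.mp h1] at this
      exact absurd (Subgroup.mem_bot.mp this) hx1
    · have heq : L = fixSub (φ m) :=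
        Subgroup.eq_of_le_of_card_ge inf_le_left (by rw [h4, h4'])
      rw [← heq]
      exact inf_le_right
    · have := Subgroup.card_dvd_of_le (inf_le_left : L ≤ fixSub (φ m))
      rw [h16, h4] at this
      norm_num at this
  have hsub : ∀ (m : normalizer (P : Set G)) (y : G), y ∈ (fixSub (φ m)).map P.subtype →
      ∃ hy : y ∈ P, (⟨y, hy⟩ : P) ∈ fixSub (φ m) := by
    rintro m _ ⟨x, hx, rfl⟩
    exact ⟨x.2, hx⟩
  have hmove : ∀ (m m' : normalizer (P : Set G)), fixSub (φ m) ⊓ fixSub (φ m') = ⊥ →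
      ∀ y ∈ (fixSub (φ m')).map P.subtype, (m : G) * y * (m : G)⁻¹ = y → y = 1 := by
    intro m m' hb y hy heq
    obtain ⟨hyP, hy'⟩ := hsub m' y hy
    have : (⟨y, hyP⟩ : P) ∈ fixSub (φ m) ⊓ fixSub (φ m') := ⟨Subtype.ext heq, hy'⟩
    rw [hb, Subgroup.mem_bot] at this
    exact congrArg Subtype.val this
  refine ⟨(fixSub (φ g)).map P.subtype, (fixSub (φ h)).map P.subtype, g, h, {
    leU := map_subtype_le _
    leV := map_subtype_le _
    cardU := by rw [Nat.card_congr ((fixSub (φ g)).equivMapOfInjective _ P.subtype_injective).toEquiv.symm, hα4]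
    cardV := by rw [Nat.card_congr ((fixSub (φ h)).equivMapOfInjective _ P.subtype_injective).toEquiv.symm, hβ4]
    disj := by rw [← map_inf _ _ _ P.subtype_injective, hinf, Subgroup.map_bot]
    cover := ?_
    memg := g.2
    memh := h.2
    gfix := fun u hu => congrArg Subtype.val (hsub g u hu).2
    hfix := fun v hv => congrArg Subtype.val (hsub h v hv).2
    gmove := hmove g h hinf
    hmove := hmove h g (by rw [inf_comm, hinf])
    invU := fun n hn u hu => ?_
    invV := fun n hn v hv => ?_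
    freeU := fun n hn u hu hu1 heq x hx => ?_
    freeV := fun n hn u hu hu1 heq x hx => ?_
    comm := hcomm }⟩
  · intro t ht
    have hbij := (Nat.bijective_iff_injective_and_card _).mpr
      ⟨Subgroup.mul_injective_of_disjoint (disjoint_iff.mpr hinf),
        show Nat.card (↥(fixSub (φ g)) × ↥(fixSub (φ h))) = Nat.card P by
          rw [Nat.card_prod, hα4, hβ4, hcard]⟩
    obtain ⟨⟨u, v⟩, huv⟩ := hbij.2 ⟨t, ht⟩
    exact ⟨_, ⟨u, u.2, rfl⟩, _, ⟨v, v.2, rfl⟩, (congrArg Subtype.val huv).symm⟩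
  · obtain ⟨huP, hu'⟩ := hsub g u hu
    exact ⟨_, hinv ⟨n, hn⟩ g _ hu', rfl⟩
  · obtain ⟨hvP, hv'⟩ := hsub h v hv
    exact ⟨_, hinv ⟨n, hn⟩ h _ hv', rfl⟩
  · obtain ⟨huP, hu'⟩ := hsub g u hu
    obtain ⟨hxP, hx'⟩ := hsub g x hx
    exact congrArg Subtype.val (hfour ⟨n, hn⟩ g hα4 _ hu' (fun h => hu1 (congrArg Subtype.val h))
      (Subtype.ext heq) hx')
  · obtain ⟨huP, hu'⟩ := hsub h u hu
    obtain ⟨hxP, hx'⟩ := hsub h x hx
    exact congrArg Subtype.val (hfour ⟨n, hn⟩ h hβ4 _ hu' (fun h => hu1 (congrArg Subtype.val h))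
      (Subtype.ext heq) hx')

end CfsgLib.Char.InertiaNine
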