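import Cfsg.Agent.Lib.Char.InertiaNine.Stable
import Cfsg.Agent.Lib.Block.KleinFour
import Cfsg.Agent.Lib.Block.PrincipalResidual

/-!
# The principal block over a normal subgroup with four-group Sylow subgroup
-/

open Finset MonoidAlgebra
open scoped ComplexConjugate

set_option autoImplicit false
set_option linter.unusedSectionVars false

namespace CfsgLib.Char.InertiaNine

open Cfsg CfsgLib CfsgLib.Block

universe u

variable {M : Ideal AlgInt} [M.IsMaximal]

/-- Four signed functions spanning the principal block of an involution centralizer on odd-order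
elements. -/
structure LocalData (M : Ideal AlgInt) (A : Type u) [Group A] [Fintype A] [Fintype (IrrCharacter A)]
    (ψ : Fin 4 → A → ℂ) : Prop where
  one : ∀ y : A, ¬ 2 ∣ orderOf y → ψ 0 y = 1
  deg : ∀ j, ∃ n : ℤ, ψ j 1 = (n : ℂ) ∧ 4 ∣ n - 1
  zero : ∀ y : A, ¬ 2 ∣ orderOf y → ∑ j, ψ j y = 0
  gram : ∀ i j, ∑ y ∈ Finset.univ.filter (fun y : A => ¬ 2 ∣ orderOf y), ψ i y * conj (ψ j y) =
    (Nat.card A : ℂ) / 4 * ((if i = j then 1 else 0) - 1 / 4)
  span : ∀ η ∈ principalBlock M A, ∃ d : Fin 4 → ℤ, ∀ y : A, ¬ 2 ∣ orderOf y →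
    (η : A → ℂ) y = ∑ j, (d j : ℂ) * ψ j y
  orth : ∀ y z : A, ¬ 2 ∣ orderOf y → ¬ 2 ∣ orderOf z →
    ∑ᶠ η ∈ principalBlock M A, (η : A → ℂ) y * conj ((η : A → ℂ) z) =
      4 * ∑ j, ψ j y * conj (ψ j z)

theorem LocalData.rank {A : Type u} [Group A] [Fintype A] [DecidableEq A]
    [Fintype (IrrCharacter A)] (hM : IsPModular 2 M) {ψ : Fin 4 → A → ℂ} (D : LocalData M A ψ) :
    blockRank 2 (principalBlock M A) = 3 := by
  classical
  have := Fintype.ofFinite (ConjClasses A)
  have hS := IsBlockUnion.of_isPBlock (isPBlock_principalBlock (M := M) (G := A))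
  have h1 : ∑ y ∈ Finset.univ.filter (fun y : A => ¬ 2 ∣ orderOf y),
      ∑ η ∈ Finset.univ.filter (· ∈ principalBlock M A), (η : A → ℂ) y * conj ((η : A → ℂ) y) =
      (Nat.card A : ℂ) * (blockRank 2 (principalBlock M A) : ℂ) := by
    rw [blockRank_eq_sum_regInner hM hS, Finset.mul_sum, Finset.sum_comm]
    refine Finset.sum_congr rfl fun η _ => ?_
    rw [card_mul_regInner]
    exact Finset.sum_congr rfl fun y _ => by rw [Char.irr_inv]
  rw [Finset.sum_congr rfl fun y hy => by
      rw [show ∑ η ∈ Finset.univ.filter (· ∈ principalBlock M A),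
          (η : A → ℂ) y * conj ((η : A → ℂ) y) = 4 * ∑ j, ψ j y * conj (ψ j y) by
        rw [← D.orth y y (Finset.mem_filter.mp hy).2 (Finset.mem_filter.mp hy).2,
          finsum_mem_eq_toFinset_sum]
        exact Finset.sum_congr (by ext; simp) fun _ _ => rfl],
    ← Finset.mul_sum, Finset.sum_comm, Finset.sum_congr rfl fun j _ => D.gram j j] at h1
  simp only [if_true, Finset.sum_const, Finset.card_univ, Fintype.card_fin, nsmul_eq_mul] at h1
  have hA : (Nat.card A : ℂ) ≠ 0 := Nat.cast_ne_zero.mpr Nat.card_pos.ne'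
  have h3 : (Nat.card A : ℂ) * (blockRank 2 (principalBlock M A) : ℂ) = (Nat.card A : ℂ) * 3 := by
    rw [← h1]; push_cast; ring
  exact_mod_cast mul_left_cancel₀ hA h3

/-- The data from a normal subgroup of index four with a four-group Sylow subgroup, all of whose
characters in the principal block are fixed. -/
theorem exists_localData (hM : IsPModular 2 M) {A : Type u} [Group A] [Fintype A] [DecidableEq A]
    [Fintype (IrrCharacter A)] (K : Subgroup A) [K.Normal] (hidx : K.index = 4)
    (hreg : ∀ y : A, ¬ 2 ∣ orderOf y → y ∈ K) (Q : Sylow 2 K) (hQ : Nat.card Q = 4)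
    (hexp : ∀ v ∈ (Q : Subgroup K), v * v = 1)
    (hone : ∀ a b : K, orderOf a = 2 → orderOf b = 2 → IsConj a b)
    (hsup : K ⊔ Subgroup.centralizer (((Q : Subgroup K).map K.subtype : Subgroup A) : Set A) = ⊤) :
    ∃ ψ : Fin 4 → A → ℂ, LocalData M A ψ := by
  classical
  have := Fintype.ofFinite K
  have := Fintype.ofFinite (IrrCharacter K)
  haveI := Fact.mk Nat.prime_two
  obtain ⟨u₀, hu₀, s, hs⟩ := exists_kleinData hM Q hQ hexp hone
  set B := principalBlock M K
  have hBcard : Fintype.card B = 4 := by rw [← Nat.card_eq_fintype_card]; exact hs.card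
  let e₀ : B ≃ Fin 4 := Fintype.equivFinOfCardEq hBcard
  let e : Fin 4 ≃ B := (e₀.trans (Equiv.swap (e₀ ⟨oneChar K, one_mem_principalBlock⟩) 0)).symm
  have he0 : e 0 = ⟨oneChar K, one_mem_principalBlock⟩ := by
    rw [Equiv.symm_apply_eq]
    simp
  let th : Fin 4 → IrrCharacter K := fun j => (e j : IrrCharacter K)
  have hth : ∀ j, th j ∈ B := fun j => (e j).2
  have hs1 : s (oneChar K) = 1 := by
    have h := hs.sing _ one_mem_principalBlock u₀ (by rw [hu₀])
    have h' : ((1 : ℤ) : ℂ) = (s (oneChar K) : ℂ) := by rw [← h]; simp [oneChar]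
    exact (Int.cast_injective h').symm
  have hsum : ∀ f : IrrCharacter K → ℂ, ∑ᶠ θ ∈ B, f θ = ∑ j, f (th j) := fun f => by
    rw [← finsum_set_coe_eq_finsum_mem, finsum_eq_sum_of_fintype,
      ← e.sum_comp fun θ : B => f θ]
  -- extension by zero
  let ext0 : IrrCharacter K → A → ℂ := fun θ y => if h : y ∈ K then (θ : K → ℂ) ⟨y, h⟩ else 0
  let ψ : Fin 4 → A → ℂ := fun j y => (s (th j) : ℂ) * ext0 (th j) y
  have hψK : ∀ j (y : K), ψ j (y : A) = (s (th j) : ℂ) * (th j : K → ℂ) y := fun j y => by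
    simp [ψ, ext0]
  have hsq : ∀ j, (s (th j) : ℂ) * (s (th j) : ℂ) = 1 := fun j => by
    rw [← Int.cast_mul, hs.sq _ (hth j), Int.cast_one]
  have hregK : ∀ {y : A}, ¬ 2 ∣ orderOf y → ∃ y' : K, (y' : A) = y ∧ ¬ 2 ∣ orderOf y' :=
    fun {y} hy => ⟨⟨y, hreg y hy⟩, rfl, by rwa [← Subgroup.orderOf_coe]⟩
  have hzero : ∀ y : A, ¬ 2 ∣ orderOf y → ∑ j, ψ j y = 0 := by
    intro y hy
    obtain ⟨y', rfl, hy'⟩ := hregK hy
    rw [← hs.orth y' hy', hsum]
    exact Finset.sum_congr rfl fun j _ => by rw [hψK, mul_comm]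
  have hKA : (Nat.card A : ℂ) / 4 = (Nat.card K : ℂ) := by
    rw [← K.card_mul_index, hidx]; push_cast; ring
  -- inner products over the odd-order elements
  set ρ : ℂ := ((Finset.univ.filter (fun y : K => 2 ∣ orderOf y)).card : ℂ) with hρ
  have hgram0 : ∀ i j, ∑ y ∈ Finset.univ.filter (fun y : K => ¬ 2 ∣ orderOf y),
      ψ i (y : A) * conj (ψ j (y : A)) = (if i = j then (Nat.card K : ℂ) else 0) - ρ := by
    intro i j
    have hfull : ∑ y : K, ψ i (y : A) * conj (ψ j (y : A)) =
        if i = j then (Nat.card K : ℂ) else 0 := by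
      have h := Char.classInner_irr (th i) (th j)
      rw [classInner, inv_mul_eq_iff_eq_mul₀ (Nat.cast_ne_zero.mpr Nat.card_pos.ne')] at h
      rw [Finset.sum_congr rfl (g := fun y : K => (s (th i) : ℂ) * (s (th j) : ℂ) *
        ((th i : K → ℂ) y * conj ((th j : K → ℂ) y))) fun y _ => by
          rw [hψK, hψK, map_mul, map_intCast]; ring, ← Finset.mul_sum]
      rw [Finset.sum_congr rfl fun y _ => rfl] at h
      rw [h]
      by_cases hij : i = j
      · subst hij; rw [if_pos rfl, if_pos rfl, mul_one, hsq, one_mul]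
      · rw [if_neg hij, if_neg (fun e' => hij (e.injective (Subtype.ext e'))), mul_zero, mul_zero]
    have hsing : ∑ y ∈ Finset.univ.filter (fun y : K => 2 ∣ orderOf y),
        ψ i (y : A) * conj (ψ j (y : A)) = ρ := by
      rw [Finset.sum_congr rfl (g := fun _ => (1 : ℂ)) fun y hy => ?_, Finset.sum_const, nsmul_one,
        ← hρ]
      rw [hψK, hψK, hs.sing _ (hth i) y (Finset.mem_filter.mp hy).2,
        hs.sing _ (hth j) y (Finset.mem_filter.mp hy).2, map_mul, map_intCast, hsq, hsq, one_mul]
    rw [← hfull, ← Finset.sum_filter_add_sum_filter_not Finset.univ (fun y : K => 2 ∣ orderOf y),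
      hsing]
    ring
  have hρ4 : ρ = (Nat.card K : ℂ) / 4 := by
    have h : ∑ j, ∑ y ∈ Finset.univ.filter (fun y : K => ¬ 2 ∣ orderOf y),
        ψ j (y : A) * conj (ψ 0 (y : A)) = 0 := by
      rw [Finset.sum_comm]
      refine Finset.sum_eq_zero fun y hy => ?_
      rw [← Finset.sum_mul, hzero _ (by rw [Subgroup.orderOf_coe]; exact (Finset.mem_filter.mp hy).2),
        zero_mul]
    simp only [hgram0, Finset.sum_sub_distrib, Finset.sum_ite_eq', Finset.mem_univ, if_true,
      Finset.sum_const, Finset.card_univ, Fintype.card_fin, nsmul_eq_mul] at h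
    push_cast at h
    linear_combination -h / 4
  have hAK : ∀ f : A → ℂ, ∑ y ∈ Finset.univ.filter (fun y : A => ¬ 2 ∣ orderOf y), f y =
      ∑ y ∈ Finset.univ.filter (fun y : K => ¬ 2 ∣ orderOf y), f (y : A) := by
    intro f
    rw [show Finset.univ.filter (fun y : A => ¬ 2 ∣ orderOf y) =
      (Finset.univ.filter (fun y : K => ¬ 2 ∣ orderOf y)).map ⟨(↑), Subtype.val_injective⟩ by
        ext y
        simp only [Finset.mem_filter, Finset.mem_univ, true_and, Finset.mem_map,
          Function.Embedding.coeFn_mk]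
        constructor
        · intro hy
          obtain ⟨y', h1, h2⟩ := hregK hy
          exact ⟨y', h2, h1⟩
        · rintro ⟨y', h2, rfl⟩
          rwa [Subgroup.orderOf_coe], Finset.sum_map]
    rfl
  -- each member is fixed by the whole group
  have hfix : ∀ j (a : A) (y : K), (th j : K → ℂ) (MulAut.conjNormal a y) = (th j : K → ℂ) y := by
    intro j a
    have ha : a ∈ K ⊔ Subgroup.centralizer (((Q : Subgroup K).map K.subtype : Subgroup A) : Set A) :=
      hsup ▸ Subgroup.mem_top _
    obtain ⟨k, hk, c, hc, rfl⟩ := Subgroup.mem_sup_of_normal_left.mp ha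
    intro y
    have hQi : ¬ 2 ∣ (((Q : Subgroup K).map K.subtype).subgroupOf K).index := by
      rw [Subgroup.subgroupOf, Subgroup.comap_map_eq_self_of_injective K.subtype_injective]
      exact Q.not_dvd_index
    rw [map_mul, MulAut.mul_apply,
      show MulAut.conjNormal k (MulAut.conjNormal c y) =
        (⟨k, hk⟩ : K) * MulAut.conjNormal c y * (⟨k, hk⟩ : K)⁻¹ from Subtype.ext (by simp),
      Char.isClassFunction_irr]
    exact conj_fix_of_principal hM hQi hc (hth j) y
  have hcl : ∀ j, IsClassFunction A (ext0 (th j)) := by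
    intro j y a
    by_cases hy : y ∈ K
    · have hy' : a * y * a⁻¹ ∈ K := (inferInstance : K.Normal).conj_mem y hy a
      simp only [ext0, dif_pos hy, dif_pos hy']
      exact hfix j a ⟨y, hy⟩
    · have hy' : a * y * a⁻¹ ∉ K := fun h => hy (by
        have := (inferInstance : K.Normal).conj_mem _ h a⁻¹
        simpa [mul_assoc] using this)
      simp [ext0, hy, hy']
  have hresch : ∀ η : IrrCharacter A, IsCharacter K (fun y : K => (η : A → ℂ) y) := fun η =>
    Char.isCharacter_comp (Char.isCharacter_irr η) K.subtype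
  have hvanish : ∀ (η : IrrCharacter A) (θ : IrrCharacter K),
      classInner (fun y : K => (η : A → ℂ) y) (θ : K → ℂ) ≠ 0 →
      (η ∈ principalBlock M A ↔ θ ∈ B) := fun η θ h =>
    mem_principalBlock_iff_constituent hM K hreg h
  have hexpand : ∀ η ∈ principalBlock M A, ∀ y : K, (η : A → ℂ) (y : A) =
      ∑ j, classInner (fun y : K => (η : A → ℂ) y) (th j : K → ℂ) * (th j : K → ℂ) y := by
    intro η hη y
    have h := congrFun (Char.classFun_expand (Char.isClassFunction_of_isCharacter (hresch η))) y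
    simp only [Finset.sum_apply, Pi.smul_apply, smul_eq_mul] at h
    rw [h, ← hsum fun θ => classInner (fun y : K => (η : A → ℂ) y) (θ : K → ℂ) * (θ : K → ℂ) y,
      finsum_mem_eq_toFinset_sum]
    refine (Finset.sum_subset (Finset.subset_univ _) fun θ _ hθ => ?_).symm
    rw [Set.mem_toFinset] at hθ
    by_contra hne
    exact hθ ((hvanish η θ fun h0 => hne (by rw [h0, zero_mul])).mp hη)
  refine ⟨ψ, ⟨?_, ?_, hzero, ?_, ?_, ?_⟩⟩
  · intro y hy
    obtain ⟨y', rfl, -⟩ := hregK hy
    rw [hψK]
    simp only [th, he0, hs1, Int.cast_one, one_mul]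
    simp [oneChar]
  · intro j
    refine ⟨s (th j) * (charDegree (th j : K → ℂ) : ℤ), ?_, ?_⟩
    · rw [show (1 : A) = ((1 : K) : A) from rfl, hψK, Int.cast_mul, Int.cast_natCast,
        ← (charDegree_eq (th j)).1]
    · obtain ⟨q, hq⟩ := hs.congr _ (hth j)
      exact ⟨s (th j) * q, by linear_combination s (th j) * hq + hs.sq _ (hth j)⟩
  · intro i j
    rw [hAK, hgram0, hρ4, hKA]
    split_ifs <;> ring
  · intro η hη
    choose m hm using fun j => Char.classInner_char_irr_nat (hresch η) (th j)
    refine ⟨fun j => s (th j) * (m j : ℤ), fun y hy => ?_⟩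
    obtain ⟨y', rfl, -⟩ := hregK hy
    rw [hexpand η hη y']
    refine Finset.sum_congr rfl fun j _ => ?_
    rw [hm, hψK]
    push_cast
    rw [← mul_assoc, mul_right_comm (s (th j) : ℂ) (m j : ℂ), hsq, one_mul]
  · intro y z hy hz
    obtain ⟨y', rfl, -⟩ := hregK hy
    obtain ⟨z', rfl, -⟩ := hregK hz
    rw [finsum_mem_eq_toFinset_sum, Finset.sum_congr rfl (g := fun η : IrrCharacter A => ∑ j,
      classInner (fun y : K => (η : A → ℂ) y) (th j : K → ℂ) * (th j : K → ℂ) y' *
        conj ((η : A → ℂ) (z' : A))) fun η hη => by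
      rw [hexpand η (by simpa using hη) y', Finset.sum_mul], Finset.sum_comm, Finset.mul_sum]
    refine Finset.sum_congr rfl fun j _ => ?_
    have hz4 : ∑ η ∈ (principalBlock M A).toFinset,
        classInner (fun y : K => (η : A → ℂ) y) (th j : K → ℂ) * conj ((η : A → ℂ) (z' : A)) =
        4 * conj ((th j : K → ℂ) z') := by
      have hex := congrFun (Char.classFun_expand (hcl j)) (z' : A)
      simp only [Finset.sum_apply, Pi.smul_apply, smul_eq_mul] at hex
      have hci : ∀ η : IrrCharacter A, classInner (ext0 (th j)) (η : A → ℂ) =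
          conj (classInner (fun y : K => (η : A → ℂ) y) (th j : K → ℂ)) / 4 := by
        intro η
        rw [Char.classInner_conj, classInner, classInner]
        have hsub : ∑ g : A, ext0 (th j) g * conj ((η : A → ℂ) g) =
            ∑ g : K, (th j : K → ℂ) g * conj ((η : A → ℂ) (g : A)) := by
          rw [← Finset.sum_subset (Finset.subset_univ (Finset.univ.filter fun g : A => g ∈ K))
            fun g _ hg => by simp [ext0, (by simpa using hg : g ∉ K)],
            Finset.sum_subtype (p := fun g => g ∈ K) _ (fun g => by simp)]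
          exact Finset.sum_congr rfl fun g _ => by simp [ext0]
        rw [show (Nat.card A : ℂ) = (Nat.card K : ℂ) * 4 by rw [← hKA]; ring, mul_inv, mul_comm
          ((Nat.card K : ℂ)⁻¹) (4 : ℂ)⁻¹, mul_assoc]
        conv_lhs => rw [hsub]
        ring
      simp only [ext0, dif_pos z'.2, Subtype.coe_eta, hci] at hex
      rw [show (4 : ℂ) * conj ((th j : K → ℂ) z') = conj (4 * (th j : K → ℂ) z') by
        rw [map_mul, Complex.conj_ofNat], hex, Finset.mul_sum, map_sum]
      refine Eq.trans ?_ (Finset.sum_congr rfl (g := fun η : IrrCharacter A =>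
        classInner (fun y : K => (η : A → ℂ) y) (th j : K → ℂ) * conj ((η : A → ℂ) (z' : A)))
        fun η _ => ?_).symm
      · refine Finset.sum_subset (Finset.subset_univ _) fun η _ hη => ?_
        rw [Set.mem_toFinset] at hη
        by_contra hne
        exact hη ((hvanish η (th j) fun h0 => hne (by rw [h0, zero_mul])).mpr (hth j))
      · rw [map_mul, map_mul, map_div₀, Complex.conj_conj, Complex.conj_ofNat]
        ring
    rw [Finset.sum_congr rfl (g := fun η : IrrCharacter A => (th j : K → ℂ) y' *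
      (classInner (fun y : K => (η : A → ℂ) y) (th j : K → ℂ) * conj ((η : A → ℂ) (z' : A))))
      fun η _ => by ring, ← Finset.mul_sum, hz4, hψK, hψK, map_mul, map_intCast]
    linear_combination (-(4 : ℂ) * (th j : K → ℂ) y' * conj ((th j : K → ℂ) z')) * hsq j

end CfsgLib.Char.InertiaNine
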