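import Cfsg.Agent.Lib.Block.ExtensionPrincipal
import Cfsg.Agent.Lib.Block.Transport

/-!
# Characters of the principal block fixed by the centralizer of a Sylow subgroup
-/

open Finset MonoidAlgebra
open scoped ComplexConjugate

set_option autoImplicit false
set_option linter.unusedSectionVars false

namespace CfsgLib.Char.InertiaNine

open Cfsg CfsgLib CfsgLib.Block CfsgLib.Block.Iso CfsgLib.Block.ExtensionPrincipal

universe u

variable {p : ℕ} {M : Ideal AlgInt} [M.IsMaximal] {G : Type u} [Group G] [Fintype G] [DecidableEq G]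
  {N : Subgroup G} [N.Normal] [Fintype N]

/-- Twisting an irreducible character by an automorphism that moves it. -/
theorem sum_twist_eq_zero (θ : IrrCharacter N) (e : N ≃* N)
    (hne : (fun u => (θ : N → ℂ) (e u)) ≠ (θ : N → ℂ)) : ∑ u : N, (θ : N → ℂ) (e u * u⁻¹) = 0 := by
  obtain ⟨m, ρ, hρ, hθ⟩ := θ.2
  let T : (Fin m → ℂ) →ₗ[ℂ] (Fin m → ℂ) := ∑ u : N, ρ (e u) * ρ u⁻¹
  have htr : LinearMap.trace ℂ _ T = ∑ u : N, (θ : N → ℂ) (e u * u⁻¹) := by
    rw [map_sum]
    refine Finset.sum_congr rfl fun u _ => ?_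
    rw [← map_mul, ← hθ]
    rfl
  have hint : ∀ v : N, ρ (e v) * T = T * ρ v := by
    intro v
    simp only [T, Finset.mul_sum, Finset.sum_mul]
    refine Fintype.sum_equiv (Equiv.mulLeft v) _ _ fun u => ?_
    simp only [Equiv.coe_mulLeft, map_mul, mul_inv_rev, mul_assoc]
    rw [← map_mul ρ v⁻¹ v, inv_mul_cancel, map_one, mul_one]
  let K : Subrepresentation ρ := ⟨LinearMap.ker T, fun v x hx => by
    rw [LinearMap.mem_ker] at hx ⊢
    have h := congrArg (fun f : Module.End ℂ (Fin m → ℂ) => f x) (hint v)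
    simp only [Module.End.mul_apply, hx, map_zero] at h
    exact h.symm⟩
  rcases hρ.eq_bot_or_eq_top K with hK | hK
  · exfalso
    have hinj : Function.Injective T := LinearMap.ker_eq_bot.mp (congrArg Subrepresentation.toSubmodule hK)
    let Te : (Fin m → ℂ) ≃ₗ[ℂ] (Fin m → ℂ) := LinearEquiv.ofInjectiveEndo T hinj
    refine hne (funext fun v => ?_)
    have hv : ρ (e v) = Te.conj (ρ v) := by
      refine LinearMap.ext fun x => ?_
      have h := congrArg (fun f : Module.End ℂ (Fin m → ℂ) => f (Te.symm x)) (hint v)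
      simp only [Module.End.mul_apply] at h
      rw [LinearEquiv.conj_apply_apply]
      rw [show T (Te.symm x) = x from Te.apply_symm_apply x] at h
      exact h
    rw [← hθ]
    show LinearMap.trace ℂ _ (ρ (e v)) = LinearMap.trace ℂ _ (ρ v)
    rw [hv, LinearMap.trace_conj']
  · rw [← htr]
    have hT : T = 0 := LinearMap.ker_eq_top.mp (congrArg Subrepresentation.toSubmodule hK)
    rw [hT, map_zero]

/-- Summing over the conjugates by the elements of `N`. -/
theorem card_mul_sum_orbit (x : G) (f : G → ℂ) :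
    ∃ k : ℕ, 0 < k ∧ ∑ n : N, f ((n : G) * x * (n : G)⁻¹) =
      (k : ℂ) * ∑ y : G, (((orb N x : MonoidAlgebra ℤ G).coeff y : ℤ) : ℂ) * f y := by
  classical
  set Kx := (Subgroup.centralizer ({x} : Set G)).subgroupOf N with hKx
  refine ⟨Nat.card Kx, Nat.card_pos, ?_⟩
  have hmaps : ∀ n ∈ (Finset.univ : Finset N), (n : G) * x * (n : G)⁻¹ ∈
      Finset.univ.filter (fun y : G => ∃ n ∈ N, n * x * n⁻¹ = y) := fun n _ => by
    simp only [Finset.mem_filter, Finset.mem_univ, true_and]
    exact ⟨n, n.2, rfl⟩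
  rw [← Finset.sum_fiberwise_of_maps_to hmaps, Finset.mul_sum]
  simp only [orb, coeff_gaOfFun]
  rw [← Finset.sum_filter_add_sum_filter_not Finset.univ (fun y : G => ∃ n ∈ N, n * x * n⁻¹ = y)
    (fun y => (Nat.card Kx : ℂ) * _), ← add_zero (Finset.sum _ _)]
  congr 1
  · refine Finset.sum_congr rfl fun y hy => ?_
    obtain ⟨n0, hn0, rfl⟩ := (Finset.mem_filter.mp hy).2
    rw [if_pos ⟨n0, hn0, rfl⟩, Int.cast_one, one_mul,
      Finset.sum_congr rfl (g := fun _ => f (n0 * x * n0⁻¹)) fun n hn => by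
        rw [(Finset.mem_filter.mp hn).2],
      Finset.sum_const, nsmul_eq_mul]
    congr 2
    rw [← Fintype.card_subtype, ← Nat.card_eq_fintype_card]
    refine Nat.card_congr ?_
    refine (Equiv.mulLeft (⟨n0, hn0⟩ : N)⁻¹).subtypeEquiv fun n => ?_
    rw [Equiv.coe_mulLeft, hKx, Subgroup.mem_subgroupOf, Subgroup.mem_centralizer_singleton_iff,
      Subgroup.coe_mul, Subgroup.coe_inv]
    constructor
    · intro h
      calc n0⁻¹ * (n : G) * x = n0⁻¹ * ((n : G) * x * (n : G)⁻¹) * n := by group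
        _ = n0⁻¹ * (n0 * x * n0⁻¹) * n := by rw [h]
        _ = x * (n0⁻¹ * n) := by group
    · intro h
      calc (n : G) * x * (n : G)⁻¹ = n0 * (n0⁻¹ * n * x) * (n : G)⁻¹ := by group
        _ = n0 * (x * (n0⁻¹ * n)) * (n : G)⁻¹ := by rw [h]
        _ = n0 * x * n0⁻¹ := by group
  · refine (Finset.sum_eq_zero fun y hy => ?_).symm
    rw [if_neg (Finset.mem_filter.mp hy).2]
    simp

/-- An element centralizing a subgroup of index prime to `p` in the normal subgroup `N` fixes every
irreducible character in the principal block of `N`. -/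
theorem conj_fix_of_principal (hM : IsPModular p M) {Q : Subgroup G}
    (hQ : ¬ p ∣ (Q.subgroupOf N).index) {x : G} (hx : x ∈ Subgroup.centralizer (Q : Set G))
    {θ : IrrCharacter N} (hθ : θ ∈ principalBlock M N) (n : N) :
    (θ : N → ℂ) (MulAut.conjNormal x n) = (θ : N → ℂ) n := by
  classical
  by_contra hne
  have htw := sum_twist_eq_zero θ (MulAut.conjNormal x) fun h => hne (congrFun h n)
  let F : G → ℂ := fun g => if h : g ∈ N then (θ : N → ℂ) ⟨g, h⟩ else 0
  have hFc : ∀ (m : N) (g : G), F ((m : G) * g * (m : G)⁻¹) = F g := by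
    intro m g
    by_cases hg : g ∈ N
    · have hg' : (m : G) * g * (m : G)⁻¹ ∈ N := (inferInstance : N.Normal).conj_mem _ hg _
      simp only [F, dif_pos hg, dif_pos hg']
      rw [← Char.isClassFunction_irr θ ⟨g, hg⟩ m]
      rfl
    · have hg' : (m : G) * g * (m : G)⁻¹ ∉ N := fun h => hg (by
        have := (inferInstance : N.Normal).conj_mem _ h (m : G)⁻¹
        simpa [mul_assoc] using this)
      simp [F, hg, hg']
  set A : G → ℂ := fun y => (((orb N x : MonoidAlgebra ℤ G).coeff y : ℤ) : ℂ) with hA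
  set A' : G → ℂ := fun y => (((orb N x⁻¹ : MonoidAlgebra ℤ G).coeff y : ℤ) : ℂ) with hA'
  have hzero : ∑ y, A y * ∑ y', A' y' * F (y * y') = 0 := by
    refine Finset.sum_eq_zero fun y _ => mul_eq_zero.mpr ?_
    by_cases hy : ∃ m ∈ N, m * x * m⁻¹ = y
    · obtain ⟨m, hm, rfl⟩ := hy
      refine Or.inr ?_
      have h1 : ∑ y', A' y' * F (m * x * m⁻¹ * y') = ∑ y', A' y' * F (x * y') := by
        refine Fintype.sum_equiv (MulAut.conj m⁻¹).toEquiv _ _ fun y' => ?_
        rw [MulEquiv.toEquiv_eq_coe, EquivLike.coe_coe, MulAut.conj_apply, inv_inv]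
        congr 1
        · rw [hA']
          dsimp only
          have h := mem_invRing.mp (orb N x⁻¹).2 m⁻¹ (N.inv_mem hm) y'
          simp only [inv_inv] at h
          rw [h]
        · rw [← hFc ⟨m, hm⟩ (x * (m⁻¹ * y' * m))]
          exact congrArg F (by group)
      rw [h1]
      obtain ⟨k, hk, hsum⟩ := card_mul_sum_orbit (N := N) x⁻¹ fun y' => F (x * y')
      refine (mul_eq_zero.mp (hsum.symm.trans ?_)).resolve_left (Nat.cast_ne_zero.mpr hk.ne')
      rw [← htw]
      refine Finset.sum_congr rfl fun u _ => ?_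
      show F (x * ((u : G) * x⁻¹ * (u : G)⁻¹)) = _
      have hmem : x * ((u : G) * x⁻¹ * (u : G)⁻¹) ∈ N := by
        have := N.mul_mem ((inferInstance : N.Normal).conj_mem _ u.2 x) (N.inv_mem u.2)
        simpa [mul_assoc] using this
      simp only [F, dif_pos hmem]
      refine congrArg (θ : N → ℂ) (Subtype.ext ?_)
      simp [MulAut.conjNormal_apply, mul_assoc]
    · left
      simp only [hA, orb, coeff_gaOfFun, if_neg hy, Int.cast_zero]
  let z : invRing N := orb N x * orb N x⁻¹
  have hz : SuppIn N (z : MonoidAlgebra ℤ G) := by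
    refine suppCoset_one_iff.mp ?_
    have := (suppCoset_orb (N := N) x).mul (suppCoset_orb (N := N) x⁻¹)
    rwa [QuotientGroup.mk_inv, mul_inv_cancel] at this
  let w : ZL M N := ⟨mapRingHom N (Int.castRingHom (locRing M)) (resTo N (z : MonoidAlgebra ℤ G)),
    mem_center_iff_isClassElt.mpr fun a b => by simp [mem_invRing.mp z.2 b b.2 a]⟩
  have h1 := RingHom.congr_fun
    (omegaBar_eq_of_mem isPBlock_principalBlock hθ one_mem_principalBlock) (toKC M w)
  rw [omegaBar_oneChar_eq_aug, omegaBar_toKC] at h1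
  have hsum : ∀ {S : Type} [AddCommMonoid S] (f : G → S), (∀ g, g ∉ N → f g = 0) →
      ∑ g, f g = ∑ n : N, f n := fun f hf => by
    rw [← Finset.sum_subset (Finset.subset_univ (Finset.univ.filter fun g : G => g ∈ N))
      fun g _ hg => hf g (by simpa using hg),
      Finset.sum_subtype (p := fun g => g ∈ N) _ (fun g => by simp)]
  have h2 : omegaRes M θ w = 0 := by
    rw [omegaRes, RingHom.comp_apply]
    suffices omegaLoc M θ w = 0 by rw [this, map_zero]
    apply Subtype.ext
    rw [coe_omegaLoc, ZeroMemClass.coe_zero]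
    refine div_eq_zero_iff.mpr ?_
    left
    have h3 : ∑ g : G, (((z : MonoidAlgebra ℤ G).coeff g : ℤ) : ℂ) * F g = 0 := by
      rw [← hzero]
      simp only [z, Subring.coe_mul, coeff_mul_sum, Int.cast_sum, Int.cast_mul, Finset.sum_mul,
        Finset.mul_sum]
      rw [Finset.sum_comm]
      refine Finset.sum_congr rfl fun y _ => ?_
      refine Fintype.sum_equiv (Equiv.mulLeft y⁻¹) _ _ fun g => ?_
      simp [hA, hA', mul_assoc]
    rw [hsum _ fun g hg => by simp [F, hg]] at h3
    rw [← h3]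
    exact Finset.sum_congr rfl fun n _ => by simp [w, F]
  have h4 : augR M N z = omegaRes M θ w := by
    rw [h1]
    show ((aug (z : MonoidAlgebra ℤ G) : ℤ) : ResField M) = _
    simp only [aug, coe_toKC, coeff_toK]
    rw [hsum _ fun g hg => hz g hg, Int.cast_sum]
    exact Finset.sum_congr rfl fun n _ => by simp [w]
  rw [h2, map_mul] at h4
  exact mul_ne_zero (augR_orb_ne_zero hM hQ hx)
    (augR_orb_ne_zero hM hQ (Subgroup.inv_mem _ hx)) h4

end CfsgLib.Char.InertiaNine
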